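import Groth.Agent.MultFib.Core
import Groth.Agent.MultType.QuasiIso
import Groth.Agent.MultType.Fibre
import Groth.Agent.VerschLib.Basic
/-!
Groups which are of multiplicative type fibre by fibre.
-/

set_option autoImplicit false
set_option linter.style.haveILetI false
set_option linter.unusedSectionVars false

universe u

open TensorProduct SGA3b IsLocalRing Groth.Agent.Henselization
open scoped TensorProduct

namespace Groth.Agent.MultFib

variable {R : Type u} [CommRing R] {C : Type u} [CommRing C] [HopfAlgebra R C]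

/-- A split part which is everything gives multiplicative type. -/
theorem isMultType_of_split_zero (R' : Type u) [CommRing R'] [Algebra R R'] [Module.FaithfullyFlat R R']
    (S : Type u) [CommRing S] [Algebra R' S] [Module.FaithfullyFlat R' S] {M : Type u} [CommGroup M]
    (ψ : S ⊗[R'] (R' ⊗[R] C) →ₐc[S] MonoidAlgebra S M) (hψ : Function.Surjective ψ)
    (hker : RingHom.ker (ψ : S ⊗[R'] (R' ⊗[R] C) →ₐ[S] MonoidAlgebra S M) = ⊥) : IsMultType R C := by
  letI : Algebra R S := ((algebraMap R' S).comp (algebraMap R R')).toAlgebra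
  haveI : IsScalarTower R R' S := IsScalarTower.of_algebraMap_eq' rfl
  haveI : Module.FaithfullyFlat R S := Module.FaithfullyFlat.trans R R' S
  exact MultType.isMultType_of_ff S (MultType.isDiag_congr (MultType.cbc (R := R) (A := C) R' S)
    ⟨M, inferInstance, ⟨BialgEquiv.ofBijective ψ ⟨(RingHom.injective_iff_ker_eq_bot _).2 hker, hψ⟩⟩⟩)

/-- The torsion subgroups stay finite after base change. -/
theorem torsion_finite_baseChange (hfin : ∀ n : ℕ, 0 < n → Module.Finite R (C ⧸ torsionIdeal R C n))
    (R' : Type u) [CommRing R'] [Algebra R R'] (n : ℕ) (hn : 0 < n) :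
    Module.Finite R' ((R' ⊗[R] C) ⧸ torsionIdeal R' (R' ⊗[R] C) n) := by
  haveI := hfin n hn
  let J := torsionIdeal R C n
  let J' := torsionIdeal R' (R' ⊗[R] C) n
  let f : C →ₐ[R] (R' ⊗[R] C) ⧸ J' := (Ideal.Quotient.mkₐ R J').comp Algebra.TensorProduct.includeRight
  have hJ : J ≤ RingHom.ker f := by
    refine MultType.torsionIdeal_le_iff.2 fun a => ?_
    show Ideal.Quotient.mk J' ((1 : R') ⊗ₜ[R] (powConv R C n a - algebraMap R C (Coalgebra.counit a))) = 0
    have h := MultType.powConv_sub_mem (R := R') n ((1 : R') ⊗ₜ[R] a)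
    rw [VerschLib.powConv_baseChange] at h
    rw [Ideal.Quotient.eq_zero_iff_mem, TensorProduct.tmul_sub]
    refine (congrArg (· ∈ J') (congrArg (_ - ·) ?_)).mp h
    rw [TensorProduct.counit_tmul, CommSemiring.counit_apply, Algebra.TensorProduct.algebraMap_apply,
      Algebra.algebraMap_eq_smul_one (A := C), TensorProduct.tmul_smul, TensorProduct.smul_tmul']
    rfl
  let F : R' ⊗[R] (C ⧸ J) →ₐ[R'] (R' ⊗[R] C) ⧸ J' :=
    Algebra.TensorProduct.lift (Algebra.ofId _ _) (Ideal.Quotient.liftₐ J f hJ) fun _ _ => Commute.all _ _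
  refine Module.Finite.of_surjective F.toLinearMap fun z => ?_
  obtain ⟨z, rfl⟩ := Ideal.Quotient.mk_surjective z
  induction z using TensorProduct.induction_on with
  | zero => exact ⟨0, by simp⟩
  | tmul r c =>
    refine ⟨r ⊗ₜ Ideal.Quotient.mk J c, ?_⟩
    show algebraMap R' ((R' ⊗[R] C) ⧸ J') r * Ideal.Quotient.mk J' ((1 : R') ⊗ₜ[R] c) = _
    rw [show algebraMap R' ((R' ⊗[R] C) ⧸ J') r = Ideal.Quotient.mk J' (r ⊗ₜ[R] (1 : C)) from rfl, ← map_mul,
      Algebra.TensorProduct.tmul_mul_tmul, mul_one, one_mul]
  | add p q hp hq =>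
    obtain ⟨a, ha⟩ := hp
    obtain ⟨b, hb⟩ := hq
    exact ⟨a + b, by rw [map_add, ha, hb, map_add]⟩

/-- Connected fibres: the local criterion. -/
theorem isMultType_of_connected [IsLocalRing R] [Algebra.FinitePresentation R C]
    (hfl : ∀ (q : Ideal C) [q.IsPrime], Ideal.map (algebraMap R C) (maximalIdeal R) ≤ q →
      Module.Flat R (Localization.AtPrime q))
    (hs : IsMultType (ResidueField R) (ResidueField R ⊗[R] C))
    (hconn : ∀ (p : Ideal R) [p.IsPrime], ConnectedSpace (PrimeSpectrum (p.ResidueField ⊗[R] C))) :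
    IsMultType R C := by
  obtain ⟨R', _, _, _, hR', e, _, S, _, _, M, _, ψ, hfin, hff, -, he, heI, hψ, hker⟩ := exists_split hfl hs
  have hεe : Coalgebra.counit (R := R') e = 0 := by
    have h := Ideal.mem_map_of_mem (Bialgebra.counitAlgHom R' (R' ⊗[R] C) : R' ⊗[R] C →+* R') heI
    rw [Ideal.map_map, show (Bialgebra.counitAlgHom R' (R' ⊗[R] C) : R' ⊗[R] C →+* R').comp
      (algebraMap R' (R' ⊗[R] C)) = RingHom.id R' from (Bialgebra.counitAlgHom R' (R' ⊗[R] C)).comp_algebraMap,
      Ideal.map_id] at h
    exact Hensel.idempotent_eq_of_sub_mem_jacobson (he.map (Bialgebra.counitAlgHom R' (R' ⊗[R] C)))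
      IsIdempotentElem.zero (by rw [sub_zero]; exact IsLocalRing.maximalIdeal_le_jacobson _ h)
  have he0 : e = 0 :=
    MultType.idempotent_eq_zero_of_connected (fun p _ => connected_fibres_baseChange hconn R' p) he hεe
  rw [he0, TensorProduct.tmul_zero, Ideal.span_singleton_zero] at hker
  exact isMultType_of_split_zero R' S ψ hψ hker

/-- Finite torsion subgroups: the local criterion. -/
theorem isMultType_of_torsion_finite [IsLocalRing R] [Coalgebra.IsCocomm R C] [Algebra.FinitePresentation R C]
    (hfl : ∀ (q : Ideal C) [q.IsPrime], Ideal.map (algebraMap R C) (maximalIdeal R) ≤ q →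
      Module.Flat R (Localization.AtPrime q))
    (hs : IsMultType (ResidueField R) (ResidueField R ⊗[R] C))
    (hfinT : ∀ n : ℕ, 0 < n → Module.Finite R (C ⧸ torsionIdeal R C n)) : IsMultType R C := by
  obtain ⟨R', _, _, _, hR', e, hH, S, _, _, M, _, ψ, hfin, hff, hFG, he, heI, hψ, hker⟩ := exists_split hfl hs
  haveI := hH
  have he0 : e = 0 := MultType.eq_zero_of_torsion_finite (IsLocalRing.maximalIdeal_le_jacobson _)
    (inferInstance : Algebra.FiniteType R' (R' ⊗[R] C)) he heI S hFG ψ hψ hker
    (torsion_finite_baseChange hfinT R')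
  rw [he0, TensorProduct.tmul_zero, Ideal.span_singleton_zero] at hker
  exact isMultType_of_split_zero R' S ψ hψ hker

/-- Splitting near a point by an étale algebra, from the local ring of the point. -/
theorem exists_etale_split_local [Algebra.FinitePresentation R C] [Module.Flat R C] (p : Ideal R) [p.IsPrime]
    (hk : IsMultType p.ResidueField (p.ResidueField ⊗[R] C))
    (h : IsMultType (Localization.AtPrime p) (Localization.AtPrime p ⊗[R] C)) :
    ∃ (S : Type u) (_ : CommRing S) (_ : Algebra R S) (P : Ideal S),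
      Algebra.Etale R S ∧ P.IsPrime ∧ P.comap (algebraMap R S) = p ∧ IsDiag S (S ⊗[R] C) := by
  obtain ⟨k', _, _, _, hsep, M₀, _, -, ⟨e₀⟩⟩ := MultType.exists_separable_split (k := p.ResidueField)
    (A := p.ResidueField ⊗[R] C) inferInstance hk
  letI : Algebra R k' := ((algebraMap p.ResidueField k').comp (algebraMap R p.ResidueField)).toAlgebra
  haveI : IsScalarTower R p.ResidueField k' := IsScalarTower.of_algebraMap_eq' rfl
  have hd : IsDiag k' (k' ⊗[R] C) :=
    MultType.isDiag_congr (MultType.cbc (R := R) (A := C) p.ResidueField k') ⟨M₀, inferInstance, ⟨e₀⟩⟩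
  let H := Hz R k'
  obtain ⟨σ⟩ := MultType.exists_toResidue p k'
  have h0 : IsDiag (ResidueField H) (ResidueField H ⊗[H] (H ⊗[R] C)) :=
    MultType.isDiag_congr (MultType.cbc (R := R) (A := C) H (ResidueField H)).symm (MultType.isDiag_of_algHom σ hd)
  have hunit : ∀ y : p.primeCompl, IsUnit (Algebra.ofId R H y.1) := fun y => by
    by_contra hn
    apply y.2
    show y.1 ∈ p
    refine Ideal.algebraMap_residueField_eq_zero.1 ?_
    refine (algebraMap p.ResidueField k').injective (σ.toRingHom.injective ?_)
    show σ (algebraMap R k' y.1) = σ (algebraMap p.ResidueField k' 0)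
    rw [σ.commutes, map_zero, map_zero, IsScalarTower.algebraMap_apply R H (ResidueField H)]
    exact (residue_eq_zero_iff _).2 hn
  let f : Localization.AtPrime p →ₐ[R] H :=
    IsLocalization.liftAlgHom (M := p.primeCompl) (f := Algebra.ofId R H) hunit
  obtain ⟨c, hu⟩ := MultType.exists_ff_chart h
  haveI : Module.FaithfullyFlat (Localization.AtPrime p) c.R' := by
    haveI : Module.FaithfullyFlat (Localization.AtPrime p) (Localization.Away c.f) :=
      Module.FaithfullyFlat.of_linearEquiv (Localization.AtPrime p) (Localization.AtPrime p)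
        (IsLocalization.atUnit (Localization.AtPrime p) (Localization.Away c.f) c.f hu).symm.toLinearEquiv
    exact Module.FaithfullyFlat.trans (Localization.AtPrime p) (Localization.Away c.f) c.R'
  letI : Algebra (Localization.AtPrime p) H := f.toRingHom.toAlgebra
  haveI : IsScalarTower R (Localization.AtPrime p) H := IsScalarTower.of_algebraMap_eq fun r => (f.commutes r).symm
  have hH : IsMultType H (H ⊗[R] C) := by
    let T := H ⊗[Localization.AtPrime p] c.R'
    exact MultType.isMultType_of_ff T (MultType.isDiag_congr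
      ((MultType.cbc (R := Localization.AtPrime p) (A := Localization.AtPrime p ⊗[R] C) H T).symm.trans
        (mapEquiv T (MultType.cbc (R := R) (A := C) (Localization.AtPrime p) H)))
      (MultType.isDiag_of_algHom (Algebra.TensorProduct.includeRight : c.R' →ₐ[_] T) ⟨c.M, inferInstance, ⟨c.e⟩⟩))
  have hHd : IsDiag H (H ⊗[R] C) := MultType.isDiag_of_henselian hH inferInstance h0
  obtain ⟨i, hi⟩ := MultType.exists_isDiag_stage hHd
  obtain ⟨s, hs, hsd⟩ := MultType.exists_isDiag_away (R := R) (S := i.S) (q := i.q) (A := C) hi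
  have hpt : i.pt s ≠ 0 := hs
  let φ : Localization.Away s →ₐ[R] k' := IsLocalization.liftAlgHom (M := Submonoid.powers s) (f := i.pt)
    fun ⟨_, k, hk⟩ => by
      subst hk
      simpa using (isUnit_iff_ne_zero.2 hpt).pow k
  haveI : Algebra.Etale i.S (Localization.Away s) := Algebra.Etale.of_isLocalizationAway s
  refine ⟨Localization.Away s, inferInstance, inferInstance, RingHom.ker φ.toRingHom,
    Algebra.Etale.comp R i.S _, RingHom.ker_isPrime _, ?_, hsd⟩
  rw [RingHom.comap_ker, show φ.toRingHom.comp (algebraMap R _) = algebraMap R k' from φ.comp_algebraMap,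
    show algebraMap R k' = (algebraMap p.ResidueField k').comp (algebraMap R p.ResidueField) from rfl,
    RingHom.ker_comp_of_injective _ (RingHom.injective _), Ideal.ker_algebraMap_residueField]

/-- Étale splittings near every point give multiplicative type. -/
theorem isMultType_of_etale_splits
    (h : ∀ p : PrimeSpectrum R, ∃ (S : Type u) (_ : CommRing S) (_ : Algebra R S) (P : Ideal S),
      Algebra.Etale R S ∧ P.IsPrime ∧ P.comap (algebraMap R S) = p.asIdeal ∧ IsDiag S (S ⊗[R] C)) :
    IsMultType R C := by
  classical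
  have key : ∀ p : PrimeSpectrum R, ∃ g : R, g ∉ p.asIdeal ∧
      IsMultTypeConst (Localization.Away g) (Localization.Away g ⊗[R] C) := by
    intro p
    obtain ⟨S, _, _, P, hS, hP, hPp, hSR⟩ := h p
    have hmem : p ∈ Set.range (PrimeSpectrum.comap (algebraMap R S)) := ⟨⟨P, hP⟩, PrimeSpectrum.ext hPp⟩
    have hopen : IsOpen (Set.range (PrimeSpectrum.comap (algebraMap R S))) :=
      PrimeSpectrum.isOpenMap_comap_of_hasGoingDown_of_finitePresentation.isOpen_range
    obtain ⟨_, ⟨g, rfl⟩, hpg, hsub⟩ :=
      PrimeSpectrum.isTopologicalBasis_basic_opens.exists_subset_of_mem_open hmem hopen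
    refine ⟨g, hpg, ?_⟩
    let Lg := Localization.Away g
    let T := Lg ⊗[R] S
    haveI : Module.FaithfullyFlat Lg T := by
      refine Module.FaithfullyFlat.of_comap_surjective fun Q => ?_
      obtain ⟨P', hP'⟩ := hsub (show PrimeSpectrum.comap (algebraMap R Lg) Q ∈ PrimeSpectrum.basicOpen g from by
        show algebraMap R Lg g ∉ Q.asIdeal
        exact fun h0 => Q.isPrime.ne_top
          (Ideal.eq_top_of_isUnit_mem _ h0 (IsLocalization.Away.algebraMap_isUnit g)))
      have hgP : algebraMap R P'.asIdeal.ResidueField g ≠ 0 := by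
        rw [IsScalarTower.algebraMap_apply R S P'.asIdeal.ResidueField, Ne, Ideal.algebraMap_residueField_eq_zero]
        intro h0
        have h1 : g ∈ (PrimeSpectrum.comap (algebraMap R Lg) Q).asIdeal := by rw [← hP']; exact h0
        exact Q.isPrime.ne_top (Ideal.eq_top_of_isUnit_mem _ h1 (IsLocalization.Away.algebraMap_isUnit g))
      let a : Lg →ₐ[R] P'.asIdeal.ResidueField := IsLocalization.liftAlgHom (M := Submonoid.powers g)
        (f := Algebra.ofId R P'.asIdeal.ResidueField) fun ⟨_, k, hk⟩ => by
          subst hk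
          simpa using (isUnit_iff_ne_zero.2 hgP).pow k
      let b : T →ₐ[R] P'.asIdeal.ResidueField :=
        Algebra.TensorProduct.lift a (IsScalarTower.toAlgHom R S _) fun _ _ => Commute.all _ _
      haveI : (RingHom.ker b.toRingHom).IsPrime := RingHom.ker_isPrime _
      refine ⟨⟨RingHom.ker b.toRingHom, inferInstance⟩,
        PrimeSpectrum.localization_comap_injective Lg (Submonoid.powers g) ?_⟩
      rw [← hP']
      refine PrimeSpectrum.ext ?_
      show ((RingHom.ker b.toRingHom).comap (algebraMap Lg T)).comap (algebraMap R Lg) = P'.asIdeal.comap (algebraMap R S)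
      rw [Ideal.comap_comap, ← IsScalarTower.algebraMap_eq R Lg T, RingHom.comap_ker,
        show b.toRingHom.comp (algebraMap R T) = algebraMap R _ from b.comp_algebraMap,
        IsScalarTower.algebraMap_eq R S P'.asIdeal.ResidueField, ← RingHom.comap_ker,
        Ideal.ker_algebraMap_residueField]
    exact ⟨T, inferInstance, inferInstance, inferInstance,
      MultType.isDiag_congr (MultType.cbc (R := R) (A := C) Lg T).symm
        (MultType.isDiag_of_algHom (Algebra.TensorProduct.includeRight : S →ₐ[R] T) hSR)⟩
  choose g hg hQ using key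
  refine ⟨Set.range g, ?_, by rintro _ ⟨p, rfl⟩; exact hQ p⟩
  by_contra hne
  obtain ⟨m, hm, hle⟩ := Ideal.exists_le_maximal _ hne
  exact hg ⟨m, hm.isPrime⟩ (hle (Ideal.subset_span ⟨_, rfl⟩))

/-- The local criterion holding at every point is the global one. -/
theorem isMultType_of_local [Algebra.FinitePresentation R C] [Module.Flat R C]
    (hfib : ∀ (p : Ideal R) [p.IsPrime], IsMultType p.ResidueField (p.ResidueField ⊗[R] C))
    (hloc : ∀ (p : Ideal R) [p.IsPrime],
      (∀ (q : Ideal (Localization.AtPrime p ⊗[R] C)) [q.IsPrime], Ideal.map (algebraMap (Localization.AtPrime p)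
        (Localization.AtPrime p ⊗[R] C)) (maximalIdeal (Localization.AtPrime p)) ≤ q →
          Module.Flat (Localization.AtPrime p) (Localization.AtPrime q)) →
      IsMultType p.ResidueField (p.ResidueField ⊗[Localization.AtPrime p] (Localization.AtPrime p ⊗[R] C)) →
      IsMultType (Localization.AtPrime p) (Localization.AtPrime p ⊗[R] C)) :
    IsMultType R C := by
  refine isMultType_of_etale_splits fun p => exists_etale_split_local p.asIdeal (hfib _) (hloc _ ?_ ?_)
  · intro q _ _
    exact Module.Flat.trans (Localization.AtPrime p.asIdeal) (Localization.AtPrime p.asIdeal ⊗[R] C) _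
  · obtain ⟨c, hu⟩ := MultType.exists_ff_chart (hfib p.asIdeal)
    haveI : Module.FaithfullyFlat p.asIdeal.ResidueField c.R' := by
      haveI : Module.FaithfullyFlat p.asIdeal.ResidueField (Localization.Away c.f) :=
        Module.FaithfullyFlat.of_linearEquiv p.asIdeal.ResidueField p.asIdeal.ResidueField
          (IsLocalization.atUnit p.asIdeal.ResidueField (Localization.Away c.f) c.f hu).symm.toLinearEquiv
      exact Module.FaithfullyFlat.trans p.asIdeal.ResidueField (Localization.Away c.f) c.R'
    exact MultType.isMultType_of_ff c.R' (MultType.isDiag_congr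
      (mapEquiv c.R' (MultType.cbc (R := R) (A := C) (Localization.AtPrime p.asIdeal) p.asIdeal.ResidueField).symm)
      ⟨c.M, inferInstance, ⟨c.e⟩⟩)

/-- Connected fibres of multiplicative type. -/
theorem isMultType_of_connected_fibres [Algebra.FinitePresentation R C] [Module.Flat R C]
    (hfib : ∀ (p : Ideal R) [p.IsPrime], IsMultType p.ResidueField (p.ResidueField ⊗[R] C) ∧
      ConnectedSpace (PrimeSpectrum (p.ResidueField ⊗[R] C))) : IsMultType R C :=
  isMultType_of_local (fun p _ => (hfib p).1) fun p _ hfl hs =>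
    isMultType_of_connected hfl hs fun q _ => connected_fibres_baseChange (fun p _ => (hfib p).2) _ q

/-- Finite torsion subgroups and fibres of multiplicative type. -/
theorem isMultType_of_torsion_fibres [Coalgebra.IsCocomm R C] [Algebra.FinitePresentation R C] [Module.Flat R C]
    (hfib : ∀ (p : Ideal R) [p.IsPrime], IsMultType p.ResidueField (p.ResidueField ⊗[R] C))
    (hfin : ∀ n : ℕ, 0 < n → Module.Finite R (C ⧸ torsionIdeal R C n)) : IsMultType R C :=
  isMultType_of_local hfib fun p _ hfl hs =>
    isMultType_of_torsion_finite hfl hs (torsion_finite_baseChange hfin _)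

end Groth.Agent.MultFib
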