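import Groth.Agent.MultFib.FlatStage
import Groth.Agent.MultType.Field
import Groth.Agent.MultType.Connected
import Groth.Agent.MultType.TorsionPoints
import Groth.Agent.RegLocal.Completion
import Groth.Agent.MonoFibre.Connected
import Groth.Agent.GeomIrred.Ring
/-!
The split part of a group which is of multiplicative type along the closed fibre, over any local ring.
-/

set_option autoImplicit false
set_option linter.style.haveILetI false
set_option linter.unusedSectionVars false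

universe u

open TensorProduct SGA3b CategoryTheory AlgebraicGeometry
open scoped TensorProduct

namespace Groth.Agent.MultFib

/-- A connected affine group over a field stays connected over extensions. -/
theorem connectedSpace_baseChange {k : Type u} [Field k] {F : Type u} [CommRing F] [HopfAlgebra k F]
    [ConnectedSpace (PrimeSpectrum F)] (K : Type u) [Field K] [Algebra k K] :
    ConnectedSpace (PrimeSpectrum (K ⊗[k] F)) := by
  haveI : ConnectedSpace ↥(Spec (CommRingCat.of F)) := ‹ConnectedSpace (PrimeSpectrum F)›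
  refine (GeomIrred.geometricallyConnected_iff_tensor k F).1 (MonoFibre.geometricallyConnected_of_section _
    (Spec.map (CommRingCat.ofHom (Bialgebra.counitAlgHom k F).toRingHom)) ?_) K
  rw [← Spec.map_comp, ← Spec.map_id]
  congr 1
  ext r
  exact (Bialgebra.counitAlgHom k F).commutes r

/-- Connected fibres persist after base change. -/
theorem connected_fibres_baseChange {R : Type u} [CommRing R] {C : Type u} [CommRing C] [HopfAlgebra R C]
    (hconn : ∀ (p : Ideal R) [p.IsPrime], ConnectedSpace (PrimeSpectrum (p.ResidueField ⊗[R] C)))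
    (R' : Type u) [CommRing R'] [Algebra R R'] (p' : Ideal R') [p'.IsPrime] :
    ConnectedSpace (PrimeSpectrum (p'.ResidueField ⊗[R'] (R' ⊗[R] C))) := by
  let p := p'.comap (algebraMap R R')
  haveI := hconn p
  let j : p.ResidueField →ₐ[R] p'.ResidueField := Ideal.ResidueField.liftₐ p (Algebra.ofId R p'.ResidueField)
    (fun r hr => by
      show algebraMap R p'.ResidueField r = 0
      rw [IsScalarTower.algebraMap_apply R R' p'.ResidueField, Ideal.algebraMap_residueField_eq_zero]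
      exact hr)
    (fun r hr => isUnit_iff_ne_zero.2 fun h => hr (by
      have h' : algebraMap R p'.ResidueField r = 0 := h
      rw [IsScalarTower.algebraMap_apply R R' p'.ResidueField, Ideal.algebraMap_residueField_eq_zero] at h'
      exact h'))
  letI : Algebra p.ResidueField p'.ResidueField := j.toRingHom.toAlgebra
  haveI : IsScalarTower R p.ResidueField p'.ResidueField := IsScalarTower.of_algebraMap_eq fun r => (j.commutes r).symm
  haveI := connectedSpace_baseChange (k := p.ResidueField) (F := p.ResidueField ⊗[R] C) p'.ResidueField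
  refine (PrimeSpectrum.homeomorphOfRingEquiv ?_).connectedSpace_iff.1 this
  exact ((Algebra.TensorProduct.cancelBaseChange R p.ResidueField p'.ResidueField p'.ResidueField C).trans
    (Algebra.TensorProduct.cancelBaseChange R R' p'.ResidueField p'.ResidueField C).symm).toRingEquiv

/-- Base change of an isomorphism of bialgebras. -/
noncomputable def mapEquiv {A : Type u} [CommRing A] {B B' : Type u} [CommRing B] [HopfAlgebra A B] [CommRing B']
    [HopfAlgebra A B'] (T : Type u) [CommRing T] [Algebra A T] (Θ : B ≃ₐc[A] B') : T ⊗[A] B ≃ₐc[T] T ⊗[A] B' :=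
  BialgEquiv.ofBijective (Bialgebra.TensorProduct.map (BialgHom.id T T) (Θ : B →ₐc[A] B'))
    (Algebra.TensorProduct.congr (AlgEquiv.refl : T ≃ₐ[T] T) (Θ : B ≃ₐ[A] B')).bijective

@[simp] theorem mapEquiv_tmul {A : Type u} [CommRing A] {B B' : Type u} [CommRing B] [HopfAlgebra A B] [CommRing B']
    [HopfAlgebra A B'] (T : Type u) [CommRing T] [Algebra A T] (Θ : B ≃ₐc[A] B') (t : T) (b : B) :
    mapEquiv T Θ (t ⊗ₜ b) = t ⊗ₜ Θ b := rfl

/-- Base change of a split part. -/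
theorem split_baseChange {A : Type u} [CommRing A] {C₁ : Type u} [CommRing C₁] [HopfAlgebra A C₁] {e : C₁}
    (S : Type u) [CommRing S] [Algebra A S] [Algebra.Etale A S] [Module.Finite A S] [Module.FaithfullyFlat A S]
    {M : Type u} [CommGroup M] (hFG : Nontrivial S → Group.FG M) (ψ : S ⊗[A] C₁ →ₐc[S] MonoidAlgebra S M)
    (hψ : Function.Surjective ψ)
    (hker : RingHom.ker (ψ : S ⊗[A] C₁ →ₐ[S] MonoidAlgebra S M) = Ideal.span {(1 : S) ⊗ₜ[A] e})
    (T : Type u) [CommRing T] [Algebra A T] {C₂ : Type u} [CommRing C₂] [HopfAlgebra T C₂]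
    (Θ : T ⊗[A] C₁ ≃ₐc[T] C₂) :
    ∃ (S₂ : Type u) (_ : CommRing S₂) (_ : Algebra T S₂) (ψ₂ : S₂ ⊗[T] C₂ →ₐc[S₂] MonoidAlgebra S₂ M),
      Algebra.Etale T S₂ ∧ Module.Finite T S₂ ∧ Module.FaithfullyFlat T S₂ ∧ (Nontrivial S₂ → Group.FG M) ∧
      Function.Surjective ψ₂ ∧
      RingHom.ker (ψ₂ : S₂ ⊗[T] C₂ →ₐ[S₂] MonoidAlgebra S₂ M) =
        Ideal.span {(1 : S₂) ⊗ₜ[T] Θ ((1 : T) ⊗ₜ[A] e)} := by
  let S₂ := T ⊗[A] S
  letI : Algebra S S₂ := Algebra.TensorProduct.rightAlgebra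
  let Γ : S₂ ⊗[S] (S ⊗[A] C₁) ≃ₐc[S₂] S₂ ⊗[T] C₂ :=
    (MultType.cbc (R := A) (A := C₁) S S₂).trans
      ((MultType.cbc (R := A) (A := C₁) T S₂).symm.trans (mapEquiv S₂ Θ))
  let ψ' : S₂ ⊗[S] (S ⊗[A] C₁) →ₐc[S₂] S₂ ⊗[S] MonoidAlgebra S M := Bialgebra.TensorProduct.map (BialgHom.id S₂ S₂) ψ
  let σ : S₂ ⊗[S] MonoidAlgebra S M ≃ₐc[S₂] MonoidAlgebra S₂ M :=
    MultType.scalarEquiv S₂ (BialgEquiv.refl S (MonoidAlgebra S M))
  let ψ₂ : S₂ ⊗[T] C₂ →ₐc[S₂] MonoidAlgebra S₂ M :=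
    (σ : S₂ ⊗[S] MonoidAlgebra S M →ₐc[S₂] MonoidAlgebra S₂ M).comp
      (ψ'.comp (Γ.symm : S₂ ⊗[T] C₂ →ₐc[S₂] S₂ ⊗[S] (S ⊗[A] C₁)))
  have hψ₂ : ∀ x, ψ₂ x = σ (ψ' (Γ.symm x)) := fun x => rfl
  have hψ' : Function.Surjective ψ' := by
    intro z
    induction z using TensorProduct.induction_on with
    | zero => exact ⟨0, map_zero ψ'⟩
    | add p q hp hq =>
      obtain ⟨p, rfl⟩ := hp
      obtain ⟨q, rfl⟩ := hq
      exact ⟨p + q, map_add ψ' p q⟩
    | tmul s w =>
      obtain ⟨y, rfl⟩ := hψ w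
      exact ⟨s ⊗ₜ y, rfl⟩
  have hker' : RingHom.ker (Algebra.TensorProduct.map (AlgHom.id S S₂) (ψ : S ⊗[A] C₁ →ₐ[S] MonoidAlgebra S M)) =
      Ideal.span {(1 : S₂) ⊗ₜ[S] ((1 : S) ⊗ₜ[A] e)} := by
    rw [Algebra.TensorProduct.lTensor_ker _ hψ, hker, Ideal.map_span, Set.image_singleton]
    rfl
  have hΓu : Γ ((1 : S₂) ⊗ₜ[S] ((1 : S) ⊗ₜ[A] e)) = (1 : S₂) ⊗ₜ[T] Θ ((1 : T) ⊗ₜ[A] e) := by
    have h1 : (MultType.cbc (R := A) (A := C₁) S S₂) ((1 : S₂) ⊗ₜ[S] ((1 : S) ⊗ₜ[A] e)) = (1 : S₂) ⊗ₜ[A] e := by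
      show (Algebra.TensorProduct.cancelBaseChange A S S₂ S₂ C₁) _ = _
      simp
    have h2 : (MultType.cbc (R := A) (A := C₁) T S₂).symm ((1 : S₂) ⊗ₜ[A] e) = (1 : S₂) ⊗ₜ[T] ((1 : T) ⊗ₜ[A] e) := by
      show (Algebra.TensorProduct.cancelBaseChange A T S₂ S₂ C₁).symm _ = _
      simp
    refine Eq.trans ?_ ((congrArg (mapEquiv S₂ Θ) h2).trans (mapEquiv_tmul S₂ Θ 1 _))
    rw [← h1]
    rfl
  refine ⟨S₂, inferInstance, inferInstance, ψ₂, inferInstance, inferInstance, inferInstance, fun h => hFG ?_, ?_, ?_⟩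
  · exact RingHom.domain_nontrivial (algebraMap S S₂)
  · intro z
    obtain ⟨w, rfl⟩ := EquivLike.surjective σ z
    obtain ⟨y, rfl⟩ := hψ' w
    exact ⟨Γ y, by rw [hψ₂]; congr 2; exact Γ.symm_apply_apply y⟩
  · refine Ideal.ext fun x => ?_
    obtain ⟨y, rfl⟩ := EquivLike.surjective Γ x
    rw [← hΓu, RingHom.mem_ker, Ideal.mem_span_singleton, map_dvd_iff Γ, ← Ideal.mem_span_singleton, ← hker']
    show ψ₂ (Γ y) = 0 ↔ ψ' y = 0
    rw [hψ₂, map_eq_zero_iff σ (EquivLike.injective σ), show Γ.symm (Γ y) = y from Γ.symm_apply_apply y]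

/-- The split part over a faithfully flat local extension. -/
theorem exists_split {R : Type u} [CommRing R] [IsLocalRing R] {C : Type u} [CommRing C] [HopfAlgebra R C]
    [Algebra.FinitePresentation R C]
    (hfl : ∀ (q : Ideal C) [q.IsPrime], Ideal.map (algebraMap R C) (IsLocalRing.maximalIdeal R) ≤ q →
      Module.Flat R (Localization.AtPrime q))
    (hs : IsMultType (IsLocalRing.ResidueField R) (IsLocalRing.ResidueField R ⊗[R] C)) :
    ∃ (R' : Type u) (_ : CommRing R') (_ : Algebra R R') (_ : IsLocalRing R'), Module.FaithfullyFlat R R' ∧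
      ∃ (e : R' ⊗[R] C) (_ : (Ideal.span {e}).IsHopfIdeal R') (S : Type u) (_ : CommRing S) (_ : Algebra R' S)
        (M : Type u) (_ : CommGroup M) (ψ : S ⊗[R'] (R' ⊗[R] C) →ₐc[S] MonoidAlgebra S M),
        Module.Finite R' S ∧ Module.FaithfullyFlat R' S ∧ (Nontrivial S → Group.FG M) ∧ IsIdempotentElem e ∧
        e ∈ Ideal.map (algebraMap R' (R' ⊗[R] C)) (IsLocalRing.maximalIdeal R') ∧ Function.Surjective ψ ∧
        RingHom.ker (ψ : S ⊗[R'] (R' ⊗[R] C) →ₐ[S] MonoidAlgebra S M) = Ideal.span {(1 : S) ⊗ₜ[R'] e} := by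
  obtain ⟨A, _, _, _, B, _, _, _, ⟨g⟩⟩ := exists_model (R := R) (C := C)
  -- the stage
  have hflB : ∀ (q : Ideal (R ⊗[A] B)) [q.IsPrime],
      Ideal.map (algebraMap R (R ⊗[A] B)) (IsLocalRing.maximalIdeal R) ≤ q →
        Module.Flat R (Localization.AtPrime q) := by
    intro q _ hq
    let ga : R ⊗[A] B ≃ₐ[R] C := g
    let q' : Ideal C := q.comap ga.symm.toRingHom
    haveI : q'.IsPrime := Ideal.IsPrime.comap _
    haveI := hfl q' (Ideal.map_le_iff_le_comap.2 fun r hr => by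
      show ga.symm (algebraMap R C r) ∈ q
      rw [AlgEquiv.commutes]
      exact hq (Ideal.mem_map_of_mem _ hr))
    have hM : q.primeCompl.map ga = q'.primeCompl := by
      ext x
      refine ⟨?_, fun hx => ⟨ga.symm x, hx, ga.apply_symm_apply x⟩⟩
      rintro ⟨y, hy, rfl⟩ hx
      exact hy (by simpa [q'] using hx)
    exact Module.Flat.of_linearEquiv
      (IsLocalization.algEquivOfAlgEquiv (M := q.primeCompl) (T := q'.primeCompl)
        (Localization.AtPrime q) (Localization.AtPrime q') ga hM).toLinearEquiv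
  obtain ⟨R₀, _, _, _, _, φ, hloc, hfl₀⟩ := exists_local_stage hflB
  haveI := hloc
  letI : Algebra R₀ R := φ.toRingHom.toAlgebra
  haveI : IsScalarTower A R₀ R := IsScalarTower.of_algebraMap_eq fun x => (φ.commutes x).symm
  haveI : IsLocalHom (algebraMap R₀ R) := hloc
  let κ := IsLocalRing.ResidueField R
  let κ₀ := IsLocalRing.ResidueField R₀
  -- the closed fibre of the stage
  have hiso₀ : ∃ (k : Type u) (_ : Field k) (_ : Algebra κ₀ k) (_ : Algebra A k) (_ : IsScalarTower A κ₀ k),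
      Module.Finite κ₀ k ∧ Algebra.IsSeparable κ₀ k ∧ IsDiag k (k ⊗[A] B) := by
    obtain ⟨K, _, _, -, -, M, _, hM, ⟨eK⟩⟩ := MultType.exists_separable_split (inferInstance : Algebra.FiniteType κ (κ ⊗[R] C)) hs
    letI : Algebra A K := ((algebraMap κ K).comp (algebraMap A κ)).toAlgebra
    haveI : IsScalarTower A κ K := IsScalarTower.of_algebraMap_eq' rfl
    letI : Algebra R K := ((algebraMap κ K).comp (algebraMap R κ)).toAlgebra
    haveI : IsScalarTower R κ K := IsScalarTower.of_algebraMap_eq' rfl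
    haveI : IsScalarTower A R K := IsScalarTower.of_algebraMap_eq fun a => by
      show algebraMap κ K (algebraMap A κ a) = algebraMap κ K (algebraMap R κ (algebraMap A R a))
      rw [← IsScalarTower.algebraMap_apply A R κ]
    letI : Algebra κ₀ K := ((algebraMap κ K).comp (algebraMap κ₀ κ)).toAlgebra
    haveI : IsScalarTower A κ₀ K := IsScalarTower.of_algebraMap_eq fun a => by
      show algebraMap κ K (algebraMap A κ a) = algebraMap κ K (algebraMap κ₀ κ (algebraMap A κ₀ a))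
      rw [IsScalarTower.algebraMap_apply A R κ, IsScalarTower.algebraMap_apply A R₀ κ₀]
      congr 1
      show _ = IsLocalRing.residue R (φ (algebraMap A R₀ a))
      rw [φ.commutes]
      rfl
    have h1 : IsDiag K (K ⊗[κ] (κ ⊗[R] C)) := ⟨M, inferInstance, ⟨eK⟩⟩
    have h2 : IsDiag K (K ⊗[A] B) :=
      MultType.isDiag_congr ((mapEquiv K g).symm.trans (MultType.cbc (R := A) (A := B) R K))
        (MultType.isDiag_congr (MultType.cbc (R := R) (A := C) κ K) h1)
    have h3 : IsMultType κ₀ (κ₀ ⊗[A] B) :=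
      MultType.isMultType_of_ff K (MultType.isDiag_congr (MultType.cbc (R := A) (A := B) κ₀ K).symm h2)
    obtain ⟨k, _, _, hkf, hks, M', _, -, ⟨ek⟩⟩ :=
      MultType.exists_separable_split (inferInstance : Algebra.FiniteType κ₀ (κ₀ ⊗[A] B)) h3
    letI : Algebra A k := ((algebraMap κ₀ k).comp (algebraMap A κ₀)).toAlgebra
    haveI : IsScalarTower A κ₀ k := IsScalarTower.of_algebraMap_eq' rfl
    exact ⟨k, inferInstance, inferInstance, inferInstance, inferInstance, hkf, hks,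
      MultType.isDiag_congr (MultType.cbc (R := A) (A := B) κ₀ k) ⟨M', inferInstance, ⟨ek⟩⟩⟩
  -- completion
  let m₀ := IsLocalRing.maximalIdeal R₀
  let Ac := AdicCompletion m₀ R₀
  haveI : IsNoetherianRing Ac := RegLocal.isNoetherianRing_completion R₀ m₀
  let I : Ideal Ac := m₀.map (algebraMap R₀ Ac)
  haveI : IsAdicComplete I Ac := AdicCompletion.isAdicComplete_self _ m₀.fg_of_isNoetherianRing
  let ι : R₀ →ₐ[A] Ac := IsScalarTower.toAlgHom A R₀ Ac
  have hflA : ∀ (q : Ideal (Ac ⊗[A] B)) [q.IsPrime], Ideal.map (algebraMap Ac (Ac ⊗[A] B)) I ≤ q →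
      Module.Flat Ac (Localization.AtPrime q) := by
    intro q _ hq
    let P := q.comap (Algebra.TensorProduct.map ι (AlgHom.id A B)).toRingHom
    haveI : P.IsPrime := Ideal.IsPrime.comap _
    refine flat_ascent ι q P rfl (hfl₀ P (Ideal.map_le_iff_le_comap.2 fun r hr => ?_))
    show Algebra.TensorProduct.map ι (AlgHom.id A B) (r ⊗ₜ 1) ∈ q
    rw [Algebra.TensorProduct.map_tmul, map_one]
    exact hq (Ideal.mem_map_of_mem _ (Ideal.mem_map_of_mem _ hr))
  have h0 : IsIsotrivial (Ac ⧸ I) ((Ac ⧸ I) ⊗[Ac] (Ac ⊗[A] B)) := by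
    obtain ⟨k, _, _, _, _, hkf, hks, hkd⟩ := hiso₀
    letI : Algebra κ₀ (Ac ⧸ I) := (Ideal.quotientMap I (algebraMap R₀ Ac) Ideal.le_comap_map).toAlgebra
    haveI : IsScalarTower A κ₀ (Ac ⧸ I) := IsScalarTower.of_algebraMap_eq fun a => by
      rw [IsScalarTower.algebraMap_apply A R₀ κ₀, IsScalarTower.algebraMap_apply A R₀ (Ac ⧸ I)]
      rfl
    haveI : Algebra.Etale κ₀ k := by
      haveI := Algebra.FormallyEtale.of_isSeparable κ₀ k
      haveI : Algebra.FinitePresentation κ₀ k := Algebra.FinitePresentation.of_finiteType.1 inferInstance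
      exact ⟨inferInstance, inferInstance⟩
    refine ⟨(Ac ⧸ I) ⊗[κ₀] k, inferInstance, inferInstance, inferInstance, inferInstance, inferInstance, ?_⟩
    refine MultType.isDiag_congr (MultType.cbc (R := Ac) (A := Ac ⊗[A] B) (Ac ⧸ I) ((Ac ⧸ I) ⊗[κ₀] k)).symm
      (MultType.isDiag_congr (MultType.cbc (R := A) (A := B) Ac ((Ac ⧸ I) ⊗[κ₀] k)).symm ?_)
    exact MultType.isDiag_of_algHom
      ((Algebra.TensorProduct.includeRight : k →ₐ[κ₀] (Ac ⧸ I) ⊗[κ₀] k).restrictScalars A) hkd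
  obtain ⟨e, S, _, _, M, _, ψ, hSet, hSfin, hSff, hFG, he, heI, hψ, hker⟩ :=
    MultType.exists_split_part (I := I) (inferInstance : Algebra.FiniteType Ac (Ac ⊗[A] B))
      (MultType.flat_quot_of_flat_localization I hflA) h0
  -- the local extension
  let π : Ac →ₐ[R₀] κ :=
    (IsScalarTower.toAlgHom R₀ κ₀ κ).comp (AdicCompletion.evalOneₐ m₀)
  let Φ : R ⊗[R₀] Ac →ₐ[R₀] κ :=
    Algebra.TensorProduct.lift (IsScalarTower.toAlgHom R₀ R κ) π fun _ _ => Commute.all _ _
  let P : Ideal (R ⊗[R₀] Ac) := RingHom.ker Φ.toRingHom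
  haveI : P.IsPrime := RingHom.ker_isPrime _
  obtain ⟨R', _, _, _, hffR', jA, hjA, hI'⟩ : ∃ (R' : Type u) (_ : CommRing R') (_ : IsLocalRing R') (_ : Algebra R R'),
      Module.FaithfullyFlat R R' ∧ ∃ jA : Ac →+* R',
        (∀ r₀, jA (algebraMap R₀ Ac r₀) = algebraMap R R' (algebraMap R₀ R r₀)) ∧
        I.map jA ≤ IsLocalRing.maximalIdeal R' := by
    let L := Localization.AtPrime P
    haveI : Module.Flat R L := Module.Flat.trans R (R ⊗[R₀] Ac) L
    haveI : IsLocalHom (algebraMap R L) := ⟨fun r hr => by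
      by_contra hn
      rw [IsScalarTower.algebraMap_apply R (R ⊗[R₀] Ac) L, IsLocalization.AtPrime.isUnit_to_map_iff L P] at hr
      apply hr
      show Φ (r ⊗ₜ 1) = 0
      rw [Algebra.TensorProduct.lift_tmul, map_one, mul_one]
      exact (IsLocalRing.residue_eq_zero_iff r).2 hn⟩
    refine ⟨L, inferInstance, inferInstance, inferInstance,
      @Module.FaithfullyFlat.of_flat_of_isLocalHom R L _ _ _ _ _ ‹_› ‹_›,
      (algebraMap (R ⊗[R₀] Ac) L).comp Algebra.TensorProduct.includeRight.toRingHom, fun r₀ => ?_, ?_⟩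
    · show algebraMap (R ⊗[R₀] Ac) L ((Algebra.TensorProduct.includeRight : Ac →ₐ[R₀] R ⊗[R₀] Ac) (algebraMap R₀ Ac r₀)) = _
      rw [AlgHom.commutes, IsScalarTower.algebraMap_apply R (R ⊗[R₀] Ac) L, IsScalarTower.algebraMap_apply R₀ R (R ⊗[R₀] Ac)]
    · rw [Ideal.map_map, Ideal.map_le_iff_le_comap]
      intro r hr
      show algebraMap (R ⊗[R₀] Ac) L ((Algebra.TensorProduct.includeRight : Ac →ₐ[R₀] R ⊗[R₀] Ac) (algebraMap R₀ Ac r)) ∈ IsLocalRing.maximalIdeal L
      refine (IsLocalization.AtPrime.to_map_mem_maximal_iff L P _).2 ?_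
      show Φ _ = 0
      rw [AlgHom.commutes, AlgHom.commutes, IsScalarTower.algebraMap_apply R₀ R κ]
      exact (IsLocalRing.residue_eq_zero_iff _).2 (map_nonunit (algebraMap R₀ R) r hr)
  haveI := hffR'
  letI : Algebra Ac R' := jA.toAlgebra
  letI : Algebra A R' := ((algebraMap R R').comp (algebraMap A R)).toAlgebra
  haveI : IsScalarTower A R R' := IsScalarTower.of_algebraMap_eq' rfl
  haveI : IsScalarTower A Ac R' := IsScalarTower.of_algebraMap_eq fun a => by
    show _ = jA (algebraMap A Ac a)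
    rw [IsScalarTower.algebraMap_apply A R₀ Ac, hjA, ← IsScalarTower.algebraMap_apply A R₀ R,
      ← IsScalarTower.algebraMap_apply A R R']
  let Θ : R' ⊗[Ac] (Ac ⊗[A] B) ≃ₐc[R'] R' ⊗[R] C :=
    (MultType.cbc (R := A) (A := B) Ac R').trans
      ((MultType.cbc (R := A) (A := B) R R').symm.trans (mapEquiv R' g))
  haveI := hSet; haveI := hSfin; haveI := hSff
  obtain ⟨S₂, _, _, ψ₂, hEt, hfin, hff, hFG₂, hψ₂, hker₂⟩ := split_baseChange S hFG ψ hψ hker R' Θ
  let e₂ : R' ⊗[R] C := Θ ((1 : R') ⊗ₜ[Ac] e)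
  have he₂ : IsIdempotentElem e₂ :=
    (he.map (Algebra.TensorProduct.includeRight : Ac ⊗[A] B →ₐ[Ac] R' ⊗[Ac] (Ac ⊗[A] B))).map Θ
  have he₂I : e₂ ∈ Ideal.map (algebraMap R' (R' ⊗[R] C)) (IsLocalRing.maximalIdeal R') := by
    refine Ideal.map_mono hI' ?_
    let f : Ac ⊗[A] B →ₐ[Ac] R' ⊗[R] C :=
      ((Θ : R' ⊗[Ac] (Ac ⊗[A] B) ≃ₐ[R'] R' ⊗[R] C).toAlgHom.restrictScalars Ac).comp
        Algebra.TensorProduct.includeRight
    have h := Ideal.mem_map_of_mem f.toRingHom heI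
    rw [Ideal.map_map, show f.toRingHom.comp (algebraMap Ac (Ac ⊗[A] B)) = algebraMap Ac (R' ⊗[R] C) from
      f.comp_algebraMap] at h
    rw [Ideal.map_map, show (algebraMap R' (R' ⊗[R] C)).comp jA = algebraMap Ac (R' ⊗[R] C) from
      (IsScalarTower.algebraMap_eq Ac R' (R' ⊗[R] C)).symm]
    exact h
  haveI := hEt; haveI := hfin; haveI := hff
  obtain ⟨hH, -, -⟩ := MultType.isIsotrivial_split_part (I := IsLocalRing.maximalIdeal R')
    (IsLocalRing.maximalIdeal_le_jacobson _) he₂ he₂I S₂ hFG₂ ψ₂ hψ₂ hker₂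
  exact ⟨R', inferInstance, inferInstance, inferInstance, inferInstance, e₂, hH, S₂, inferInstance, inferInstance,
    M, inferInstance, ψ₂, hfin, hff, hFG₂, he₂, he₂I, hψ₂, hker₂⟩

end Groth.Agent.MultFib
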