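import Groth.Agent.MultFib.Stage
import Mathlib
/-!
Comultiplication data on an algebra, and their extension of scalars.
-/

set_option autoImplicit false
set_option linter.style.haveILetI false
set_option linter.unusedSectionVars false

universe u

open TensorProduct
open scoped TensorProduct

namespace Groth.Agent.MultFib

variable {A : Type u} [CommRing A]

/-- The data of a commutative Hopf algebra. -/
structure IsHopfData {D : Type u} [CommRing D] [Algebra A D] (δ : D →ₐ[A] D ⊗[A] D) (ε : D →ₐ[A] A)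
    (σ : D →ₐ[A] D) : Prop where
  coassoc : ∀ x, Algebra.TensorProduct.assoc A A A D D D (Algebra.TensorProduct.map δ (AlgHom.id A D) (δ x)) =
    Algebra.TensorProduct.map (AlgHom.id A D) δ (δ x)
  lcounit : ∀ x, Algebra.TensorProduct.lid A D (Algebra.TensorProduct.map ε (AlgHom.id A D) (δ x)) = x
  rcounit : ∀ x, Algebra.TensorProduct.rid A A D (Algebra.TensorProduct.map (AlgHom.id A D) ε (δ x)) = x
  lanti : ∀ x, Algebra.TensorProduct.lmul' A (Algebra.TensorProduct.map σ (AlgHom.id A D) (δ x)) =
    algebraMap A D (ε x)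
  ranti : ∀ x, Algebra.TensorProduct.lmul' A (Algebra.TensorProduct.map (AlgHom.id A D) σ (δ x)) =
    algebraMap A D (ε x)

/-- The Hopf algebra of the data. -/
@[reducible]
noncomputable def IsHopfData.hopf {D : Type u} [CommRing D] [Algebra A D] {δ : D →ₐ[A] D ⊗[A] D} {ε : D →ₐ[A] A}
    {σ : D →ₐ[A] D} (h : IsHopfData δ ε σ) : HopfAlgebra A D :=
  letI : Bialgebra A D := Bialgebra.ofAlgHom δ ε (AlgHom.ext h.coassoc)
    (AlgHom.ext fun x => (Algebra.TensorProduct.lid A D).injective ((h.lcounit x).trans (by simp)))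
    (AlgHom.ext fun x => (Algebra.TensorProduct.rid A A D).injective ((h.rcounit x).trans (by simp)))
  { (inferInstance : Bialgebra A D) with
    antipode := σ.toLinearMap
    mul_antipode_rTensor_comul := LinearMap.ext fun x => by
      have e : ∀ w : D ⊗[A] D, LinearMap.mul' A D (σ.toLinearMap.rTensor D w) =
          Algebra.TensorProduct.lmul' A (Algebra.TensorProduct.map σ (AlgHom.id A D) w) := by
        intro w
        induction w with
        | zero => simp
        | add a b ha hb => simp only [map_add, ha, hb]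
        | tmul a b => simp
      show LinearMap.mul' A D (σ.toLinearMap.rTensor D (δ x)) = algebraMap A D (ε x)
      rw [e, h.lanti]
    mul_antipode_lTensor_comul := LinearMap.ext fun x => by
      have e : ∀ w : D ⊗[A] D, LinearMap.mul' A D (σ.toLinearMap.lTensor D w) =
          Algebra.TensorProduct.lmul' A (Algebra.TensorProduct.map (AlgHom.id A D) σ w) := by
        intro w
        induction w with
        | zero => simp
        | add a b ha hb => simp only [map_add, ha, hb]
        | tmul a b => simp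
      show LinearMap.mul' A D (σ.toLinearMap.lTensor D (δ x)) = algebraMap A D (ε x)
      rw [e, h.ranti] }

/-- Data transported from a Hopf algebra. -/
theorem IsHopfData.of_equiv {D C : Type u} [CommRing D] [Algebra A D] [CommRing C] [HopfAlgebra A C] (e : D ≃ₐ[A] C)
    {δ : D →ₐ[A] D ⊗[A] D} {ε : D →ₐ[A] A} {σ : D →ₐ[A] D}
    (hδ : ∀ x, Algebra.TensorProduct.map e.toAlgHom e.toAlgHom (δ x) = Coalgebra.comul (R := A) (e x))
    (hε : ∀ x, Coalgebra.counit (R := A) (e x) = ε x) (hσ : ∀ x, HopfAlgebra.antipode A (e x) = e (σ x)) :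
    IsHopfData δ ε σ := by
  let e2 := Algebra.TensorProduct.congr e e
  refine ⟨fun x => (Algebra.TensorProduct.congr e e2).injective ?_, fun x => e.injective ?_, fun x => e.injective ?_,
    fun x => e.injective ?_, fun x => e.injective ?_⟩
  · have h1 : ∀ w, Algebra.TensorProduct.congr e e2 (Algebra.TensorProduct.assoc A A A D D D
        (Algebra.TensorProduct.map δ (AlgHom.id A D) w)) = TensorProduct.assoc A C C C
          (Coalgebra.comul.rTensor C (Algebra.TensorProduct.map e.toAlgHom e.toAlgHom w)) := by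
      intro w
      induction w with
      | zero => simp
      | add a b ha hb => simp only [map_add, ha, hb]
      | tmul a c =>
        simp only [Algebra.TensorProduct.map_tmul, AlgHom.id_apply, LinearMap.rTensor_tmul, AlgEquiv.coe_toAlgHom]
        rw [← hδ]
        induction δ a with
        | zero => simp
        | add p q hp hq => simp only [map_add, TensorProduct.add_tmul, hp, hq]
        | tmul p q => simp [e2]
    have h2 : ∀ w, Algebra.TensorProduct.congr e e2 (Algebra.TensorProduct.map (AlgHom.id A D) δ w) =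
        Coalgebra.comul.lTensor C (Algebra.TensorProduct.map e.toAlgHom e.toAlgHom w) := by
      intro w
      induction w with
      | zero => simp
      | add a b ha hb => simp only [map_add, ha, hb]
      | tmul a c =>
        simp only [Algebra.TensorProduct.map_tmul, AlgHom.id_apply, LinearMap.lTensor_tmul, AlgEquiv.coe_toAlgHom,
          Algebra.TensorProduct.congr_apply, e2]
        rw [← hδ]
    rw [h1, h2, hδ]
    exact Coalgebra.coassoc_apply _
  · have h1 : ∀ w, e (Algebra.TensorProduct.lid A D (Algebra.TensorProduct.map ε (AlgHom.id A D) w)) =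
        TensorProduct.lid A C ((Coalgebra.counit (R := A)).rTensor C (Algebra.TensorProduct.map e.toAlgHom e.toAlgHom w)) := by
      intro w
      induction w with
      | zero => simp
      | add a b ha hb => simp only [map_add, ha, hb]
      | tmul a c => simp [hε]
    rw [h1, hδ, Coalgebra.rTensor_counit_comul]
    simp
  · have h1 : ∀ w, e (Algebra.TensorProduct.rid A A D (Algebra.TensorProduct.map (AlgHom.id A D) ε w)) =
        TensorProduct.rid A C ((Coalgebra.counit (R := A)).lTensor C (Algebra.TensorProduct.map e.toAlgHom e.toAlgHom w)) := by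
      intro w
      induction w with
      | zero => simp
      | add a b ha hb => simp only [map_add, ha, hb]
      | tmul a c => simp [hε]
    rw [h1, hδ, Coalgebra.lTensor_counit_comul]
    simp
  · have h1 : ∀ w, e (Algebra.TensorProduct.lmul' A (Algebra.TensorProduct.map σ (AlgHom.id A D) w)) =
        LinearMap.mul' A C ((HopfAlgebra.antipode A).rTensor C (Algebra.TensorProduct.map e.toAlgHom e.toAlgHom w)) := by
      intro w
      induction w with
      | zero => simp
      | add a b ha hb => simp only [map_add, ha, hb]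
      | tmul a c => simp [hσ]
    rw [h1, hδ, HopfAlgebra.mul_antipode_rTensor_comul_apply, hε, AlgEquiv.commutes]
  · have h1 : ∀ w, e (Algebra.TensorProduct.lmul' A (Algebra.TensorProduct.map (AlgHom.id A D) σ w)) =
        LinearMap.mul' A C ((HopfAlgebra.antipode A).lTensor C (Algebra.TensorProduct.map e.toAlgHom e.toAlgHom w)) := by
      intro w
      induction w with
      | zero => simp
      | add a b ha hb => simp only [map_add, ha, hb]
      | tmul a c => simp [hσ]
    rw [h1, hδ, HopfAlgebra.mul_antipode_lTensor_comul_apply, hε, AlgEquiv.commutes]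

section

variable (T : Type u) [CommRing T] [Algebra A T] {B B₁ B₂ : Type u} [CommRing B] [Algebra A B] [CommRing B₁]
  [Algebra A B₁] [CommRing B₂] [Algebra A B₂]

/-- Extension of scalars commutes with tensor products. -/
noncomputable def tp : T ⊗[A] (B₁ ⊗[A] B₂) ≃ₐ[T] (T ⊗[A] B₁) ⊗[T] (T ⊗[A] B₂) :=
  let f : T ⊗[A] (B₁ ⊗[A] B₂) →ₐ[T] (T ⊗[A] B₁) ⊗[T] (T ⊗[A] B₂) :=
    Algebra.TensorProduct.lift (Algebra.ofId _ _)
      (Algebra.TensorProduct.lift
        (((Algebra.TensorProduct.includeLeft (S := T)).restrictScalars A).comp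
          (Algebra.TensorProduct.includeRight : B₁ →ₐ[A] T ⊗[A] B₁))
        (((Algebra.TensorProduct.includeRight : _ →ₐ[T] (T ⊗[A] B₁) ⊗[T] (T ⊗[A] B₂)).restrictScalars A).comp
          (Algebra.TensorProduct.includeRight : B₂ →ₐ[A] T ⊗[A] B₂)) fun _ _ => Commute.all _ _)
      fun _ _ => Commute.all _ _
  let g : (T ⊗[A] B₁) ⊗[T] (T ⊗[A] B₂) →ₐ[T] T ⊗[A] (B₁ ⊗[A] B₂) :=
    Algebra.TensorProduct.lift (Algebra.TensorProduct.map (AlgHom.id T T) Algebra.TensorProduct.includeLeft)
      (Algebra.TensorProduct.map (AlgHom.id T T) Algebra.TensorProduct.includeRight) fun _ _ => Commute.all _ _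
  AlgEquiv.ofAlgHom f g
    (Algebra.TensorProduct.ext
      (Algebra.TensorProduct.ext (by ext) (AlgHom.ext fun b => by simp [f, g, Algebra.TensorProduct.one_def]))
      (Algebra.TensorProduct.ext (by ext) (AlgHom.ext fun b => by simp [f, g, Algebra.TensorProduct.one_def])))
    (Algebra.TensorProduct.ext (by ext)
      (Algebra.TensorProduct.ext (AlgHom.ext fun b => by simp [f, g, Algebra.TensorProduct.one_def])
        (AlgHom.ext fun b => by simp [f, g, Algebra.TensorProduct.one_def])))

theorem tp_tmul (t : T) (x : B₁) (y : B₂) :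
    tp T (t ⊗ₜ[A] (x ⊗ₜ[A] y)) = t • (((1 : T) ⊗ₜ[A] x) ⊗ₜ[T] ((1 : T) ⊗ₜ[A] y)) := by
  simp [tp, Algebra.TensorProduct.one_def, TensorProduct.smul_tmul', Algebra.smul_def]

/-- The comultiplication after extension of scalars. -/
noncomputable def dlt (δ : B →ₐ[A] B ⊗[A] B) : T ⊗[A] B →ₐ[T] (T ⊗[A] B) ⊗[T] (T ⊗[A] B) :=
  (tp (A := A) T (B₁ := B) (B₂ := B)).toAlgHom.comp (Algebra.TensorProduct.map (AlgHom.id T T) δ)

/-- The counit after extension of scalars. -/
noncomputable def eps (ε : B →ₐ[A] A) : T ⊗[A] B →ₐ[T] T :=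
  Algebra.TensorProduct.lift (AlgHom.id T T) ((Algebra.ofId A T).comp ε) fun _ _ => Commute.all _ _

/-- The antipode after extension of scalars. -/
noncomputable def sig (σ : B →ₐ[A] B) : T ⊗[A] B →ₐ[T] T ⊗[A] B :=
  Algebra.TensorProduct.map (AlgHom.id T T) σ

variable {T}

theorem dlt_tmul (δ : B →ₐ[A] B ⊗[A] B) (t : T) (b : B) : dlt T δ (t ⊗ₜ b) = tp T (t ⊗ₜ δ b) := by
  simp [dlt]

theorem eps_tmul (ε : B →ₐ[A] A) (t : T) (b : B) : eps T ε (t ⊗ₜ b) = t * algebraMap A T (ε b) := by
  simp [eps]

theorem sig_tmul (σ : B →ₐ[A] B) (t : T) (b : B) : sig T σ (t ⊗ₜ b) = t ⊗ₜ σ b := by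
  simp [sig]

/-- The axioms after extension of scalars, read in the original algebras. -/
theorem isHopfData_iff (δ : B →ₐ[A] B ⊗[A] B) (ε : B →ₐ[A] A) (σ : B →ₐ[A] B) :
    IsHopfData (dlt T δ) (eps T ε) (sig T σ) ↔ ∀ b,
      (1 : T) ⊗ₜ[A] Algebra.TensorProduct.assoc A A A B B B (Algebra.TensorProduct.map δ (AlgHom.id A B) (δ b)) =
          1 ⊗ₜ Algebra.TensorProduct.map (AlgHom.id A B) δ (δ b) ∧
      (1 : T) ⊗ₜ[A] Algebra.TensorProduct.lid A B (Algebra.TensorProduct.map ε (AlgHom.id A B) (δ b)) = 1 ⊗ₜ b ∧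
      (1 : T) ⊗ₜ[A] Algebra.TensorProduct.rid A A B (Algebra.TensorProduct.map (AlgHom.id A B) ε (δ b)) = 1 ⊗ₜ b ∧
      (1 : T) ⊗ₜ[A] Algebra.TensorProduct.lmul' A (Algebra.TensorProduct.map σ (AlgHom.id A B) (δ b)) =
          1 ⊗ₜ algebraMap A B (ε b) ∧
      (1 : T) ⊗ₜ[A] Algebra.TensorProduct.lmul' A (Algebra.TensorProduct.map (AlgHom.id A B) σ (δ b)) =
          1 ⊗ₜ algebraMap A B (ε b) := by
  let U := T ⊗[A] B
  let Φ : T ⊗[A] (B ⊗[A] (B ⊗[A] B)) ≃ₐ[T] U ⊗[T] (U ⊗[T] U) :=
    (tp T).trans (Algebra.TensorProduct.congr AlgEquiv.refl (tp T))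
  have hs : ∀ (p : B ⊗[A] (B ⊗[A] B)) (x : B) (y : B) (z : B), p = x ⊗ₜ (y ⊗ₜ z) →
      Φ ((1 : T) ⊗ₜ p) = ((1 : T) ⊗ₜ x) ⊗ₜ (((1 : T) ⊗ₜ y) ⊗ₜ ((1 : T) ⊗ₜ z)) := by
    rintro p x y z rfl
    simp [Φ, tp_tmul, Algebra.TensorProduct.congr_apply]
    erw [tp_tmul]
    simp
  have c1 : ∀ b, Algebra.TensorProduct.assoc T T T U U U (Algebra.TensorProduct.map (dlt T δ) (AlgHom.id T U)
      (dlt T δ (1 ⊗ₜ b))) = Φ (1 ⊗ₜ Algebra.TensorProduct.assoc A A A B B B
        (Algebra.TensorProduct.map δ (AlgHom.id A B) (δ b))) := by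
    intro b
    rw [dlt_tmul]
    induction δ b with
    | zero => simp
    | add p q hp hq => simp only [TensorProduct.tmul_add, map_add, hp, hq]
    | tmul x c =>
      simp only [tp_tmul, _root_.one_smul, Algebra.TensorProduct.map_tmul, AlgHom.id_apply, dlt_tmul]
      induction δ x with
      | zero => simp
      | add p q hp hq => simp only [TensorProduct.tmul_add, map_add, TensorProduct.add_tmul, hp, hq]
      | tmul p q =>
        rw [Algebra.TensorProduct.assoc_tmul, hs _ p q c rfl]
        simp [tp_tmul]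
  have c2 : ∀ b, Algebra.TensorProduct.map (AlgHom.id T U) (dlt T δ) (dlt T δ (1 ⊗ₜ b)) =
      Φ (1 ⊗ₜ Algebra.TensorProduct.map (AlgHom.id A B) δ (δ b)) := by
    intro b
    rw [dlt_tmul]
    induction δ b with
    | zero => simp
    | add p q hp hq => simp only [TensorProduct.tmul_add, map_add, hp, hq]
    | tmul x c =>
      simp only [tp_tmul, _root_.one_smul, Algebra.TensorProduct.map_tmul, AlgHom.id_apply, dlt_tmul]
      induction δ c with
      | zero => simp
      | add p q hp hq => simp only [TensorProduct.tmul_add, map_add, hp, hq]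
      | tmul p q =>
        rw [hs _ x p q rfl]
        simp [tp_tmul]
  have c3 : ∀ b, Algebra.TensorProduct.lid T U (Algebra.TensorProduct.map (eps T ε) (AlgHom.id T U)
      (dlt T δ (1 ⊗ₜ b))) = 1 ⊗ₜ Algebra.TensorProduct.lid A B (Algebra.TensorProduct.map ε (AlgHom.id A B) (δ b)) := by
    intro b
    rw [dlt_tmul]
    induction δ b with
    | zero => simp
    | add p q hp hq => simp only [TensorProduct.tmul_add, map_add, hp, hq]
    | tmul x c =>
      simp [tp_tmul, eps_tmul, TensorProduct.smul_tmul', algebraMap_smul]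
      try rw [TensorProduct.smul_tmul']
  have c4 : ∀ b, Algebra.TensorProduct.rid T T U (Algebra.TensorProduct.map (AlgHom.id T U) (eps T ε)
      (dlt T δ (1 ⊗ₜ b))) = 1 ⊗ₜ Algebra.TensorProduct.rid A A B (Algebra.TensorProduct.map (AlgHom.id A B) ε (δ b)) := by
    intro b
    rw [dlt_tmul]
    induction δ b with
    | zero => simp
    | add p q hp hq => simp only [TensorProduct.tmul_add, map_add, hp, hq]
    | tmul x c =>
      simp [tp_tmul, eps_tmul, TensorProduct.smul_tmul', algebraMap_smul]
      try rw [TensorProduct.smul_tmul']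
  have c5 : ∀ b, Algebra.TensorProduct.lmul' T (Algebra.TensorProduct.map (sig T σ) (AlgHom.id T U)
      (dlt T δ (1 ⊗ₜ b))) = 1 ⊗ₜ Algebra.TensorProduct.lmul' A (Algebra.TensorProduct.map σ (AlgHom.id A B) (δ b)) := by
    intro b
    rw [dlt_tmul]
    induction δ b with
    | zero => simp
    | add p q hp hq => simp only [TensorProduct.tmul_add, map_add, hp, hq]
    | tmul x c =>
      simp [tp_tmul, sig_tmul, Algebra.TensorProduct.tmul_mul_tmul]
      all_goals rw [Algebra.TensorProduct.tmul_mul_tmul, _root_.one_mul]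
  have c6 : ∀ b, Algebra.TensorProduct.lmul' T (Algebra.TensorProduct.map (AlgHom.id T U) (sig T σ)
      (dlt T δ (1 ⊗ₜ b))) = 1 ⊗ₜ Algebra.TensorProduct.lmul' A (Algebra.TensorProduct.map (AlgHom.id A B) σ (δ b)) := by
    intro b
    rw [dlt_tmul]
    induction δ b with
    | zero => simp
    | add p q hp hq => simp only [TensorProduct.tmul_add, map_add, hp, hq]
    | tmul x c =>
      simp [tp_tmul, sig_tmul, Algebra.TensorProduct.tmul_mul_tmul]
      all_goals rw [Algebra.TensorProduct.tmul_mul_tmul, _root_.one_mul]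
  have c7 : ∀ b, algebraMap T U (eps T ε (1 ⊗ₜ b)) = 1 ⊗ₜ algebraMap A B (ε b) := fun b => by
    rw [eps_tmul, _root_.one_mul, ← IsScalarTower.algebraMap_apply A T U, Algebra.algebraMap_eq_smul_one,
      Algebra.algebraMap_eq_smul_one, TensorProduct.tmul_smul, Algebra.TensorProduct.one_def]
  constructor
  · intro h b
    exact ⟨Φ.injective ((c1 b).symm.trans ((h.coassoc _).trans (c2 b))), (c3 b).symm.trans (h.lcounit _),
      (c4 b).symm.trans (h.rcounit _), (c5 b).symm.trans ((h.lanti _).trans (c7 b)),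
      (c6 b).symm.trans ((h.ranti _).trans (c7 b))⟩
  · intro h
    constructor <;> intro x <;> induction x with
      | zero => simp
      | add p q hp hq => simp only [map_add, hp, hq]
      | tmul t b =>
        rw [show t ⊗ₜ[A] b = t • ((1 : T) ⊗ₜ[A] b) by simp [TensorProduct.smul_tmul']]
        simp only [map_smul, Algebra.algebraMap_eq_smul_one, smul_eq_mul, mul_smul]
        congr 1
        first
          | rw [c1, c2, (h b).1]
          | rw [c3, (h b).2.1]
          | rw [c4, (h b).2.2.1]
          | rw [c5, ← Algebra.algebraMap_eq_smul_one, c7, (h b).2.2.2.1]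
          | rw [c6, ← Algebra.algebraMap_eq_smul_one, c7, (h b).2.2.2.2]

theorem cancel_tp (R : Type u) [CommRing R] [Algebra A R] [Algebra T R] [IsScalarTower A T R]
    (r : R) (w : T ⊗[A] (B ⊗[A] B)) :
    Algebra.TensorProduct.map (Algebra.TensorProduct.cancelBaseChange A T R R B).toAlgHom
        (Algebra.TensorProduct.cancelBaseChange A T R R B).toAlgHom (tp (A := T) R (r ⊗ₜ[T] tp T w)) =
      r • tp R (Algebra.TensorProduct.map (IsScalarTower.toAlgHom A T R) (AlgHom.id A (B ⊗[A] B)) w) := by
  induction w with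
  | zero => simp
  | add p q hp hq => simp only [map_add, TensorProduct.tmul_add, smul_add, hp, hq]
  | tmul s v =>
    induction v with
    | zero => simp
    | add p q hp hq => simp only [map_add, TensorProduct.tmul_add, smul_add, hp, hq]
    | tmul x y =>
      rw [tp_tmul, show s • (((1 : T) ⊗ₜ[A] x) ⊗ₜ[T] ((1 : T) ⊗ₜ[A] y)) = (s ⊗ₜ[A] x) ⊗ₜ[T] ((1 : T) ⊗ₜ[A] y) by
        simp [TensorProduct.smul_tmul'], tp_tmul, map_smul, Algebra.TensorProduct.map_tmul]
      simp [tp_tmul, TensorProduct.smul_tmul', Algebra.smul_def, mul_assoc]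

end

end Groth.Agent.MultFib
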