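import Groth.Agent.MultFib.Data
/-!
Finitely presented commutative Hopf algebras descend to noetherian rings.
-/

set_option autoImplicit false
set_option linter.style.haveILetI false
set_option linter.unusedSectionVars false

universe u

open TensorProduct
open scoped TensorProduct

namespace Groth.Agent.MultFib

variable {R : Type u} [CommRing R] {C : Type u} [CommRing C] [HopfAlgebra R C]

section

variable {A : Type u} [CommRing A] [Algebra A R] {B : Type u} [CommRing B] [Algebra A B] (e : R ⊗[A] B ≃ₐ[R] C)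

/-- The comultiplication read through `e`. -/
noncomputable def comulOn : B →ₐ[A] R ⊗[A] (B ⊗[A] B) :=
  ((((tp (A := A) R (B₁ := B) (B₂ := B)).symm.toAlgHom.comp (Algebra.TensorProduct.map e.symm.toAlgHom e.symm.toAlgHom)).comp
    (Bialgebra.comulAlgHom R C)).comp e.toAlgHom).restrictScalars A |>.comp Algebra.TensorProduct.includeRight

/-- The counit read through `e`. -/
noncomputable def counitOn : B →ₐ[A] R :=
  (((Bialgebra.counitAlgHom R C).comp e.toAlgHom).restrictScalars A).comp Algebra.TensorProduct.includeRight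

/-- The antipode read through `e`. -/
noncomputable def antiOn : B →ₐ[A] R ⊗[A] B :=
  (((e.symm.toAlgHom.comp (HopfAlgebra.antipodeAlgHom R C)).comp e.toAlgHom).restrictScalars A).comp
    Algebra.TensorProduct.includeRight

theorem map_e_tp_comulOn (b : B) :
    Algebra.TensorProduct.map e.toAlgHom e.toAlgHom (tp R (comulOn e b)) =
      Coalgebra.comul (R := R) (e ((1 : R) ⊗ₜ b)) := by
  show Algebra.TensorProduct.map e.toAlgHom e.toAlgHom (tp R ((tp R).symm
    (Algebra.TensorProduct.map e.symm.toAlgHom e.symm.toAlgHom (Coalgebra.comul (R := R) (e ((1 : R) ⊗ₜ b)))))) = _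
  rw [AlgEquiv.apply_symm_apply]
  induction Coalgebra.comul (R := R) (e ((1 : R) ⊗ₜ b)) with
  | zero => simp
  | add p q hp hq => simp only [map_add, hp, hq]
  | tmul p q => simp

/-- Data compatible with the Hopf algebra. -/
structure Compat (δ : B →ₐ[A] B ⊗[A] B) (ε : B →ₐ[A] A) (σ : B →ₐ[A] B) : Prop where
  comul : ∀ x, Algebra.TensorProduct.map e.toAlgHom e.toAlgHom (dlt R δ x) = Coalgebra.comul (R := R) (e x)
  counit : ∀ x, Coalgebra.counit (R := R) (e x) = eps R ε x
  anti : ∀ x, HopfAlgebra.antipode R (e x) = e (sig R σ x)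

variable {e}

theorem Compat.isHopfData {δ : B →ₐ[A] B ⊗[A] B} {ε : B →ₐ[A] A} {σ : B →ₐ[A] B} (h : Compat e δ ε σ) :
    IsHopfData (dlt R δ) (eps R ε) (sig R σ) :=
  IsHopfData.of_equiv e h.comul h.counit h.anti

theorem Compat.comulOn_eq {δ : B →ₐ[A] B ⊗[A] B} {ε : B →ₐ[A] A} {σ : B →ₐ[A] B} (h : Compat e δ ε σ) (b : B) :
    comulOn e b = 1 ⊗ₜ δ b := by
  show (tp R).symm (Algebra.TensorProduct.map e.symm.toAlgHom e.symm.toAlgHom (Coalgebra.comul (R := R) (e ((1 : R) ⊗ₜ b)))) = _
  rw [← h.comul, dlt_tmul]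
  conv_rhs => rw [← (tp R).symm_apply_apply ((1 : R) ⊗ₜ[A] δ b)]
  congr 1
  induction tp R ((1 : R) ⊗ₜ[A] δ b) with
  | zero => simp
  | add p q hp hq => simp only [map_add, hp, hq]
  | tmul p q => simp

theorem Compat.counitOn_eq {δ : B →ₐ[A] B ⊗[A] B} {ε : B →ₐ[A] A} {σ : B →ₐ[A] B} (h : Compat e δ ε σ) (b : B) :
    counitOn e b = algebraMap A R (ε b) := by
  show Coalgebra.counit (R := R) (e ((1 : R) ⊗ₜ b)) = _
  rw [h.counit, eps_tmul, one_mul]

theorem Compat.antiOn_eq {δ : B →ₐ[A] B ⊗[A] B} {ε : B →ₐ[A] A} {σ : B →ₐ[A] B} (h : Compat e δ ε σ) (b : B) :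
    antiOn e b = 1 ⊗ₜ σ b := by
  show e.symm (HopfAlgebra.antipode R (e ((1 : R) ⊗ₜ b))) = _
  rw [h.anti, sig_tmul, AlgEquiv.symm_apply_apply]

variable (e) (T : Type u) [CommRing T] [Algebra A T] [Algebra T R] [IsScalarTower A T R]

/-- The base change of the model to a stage. -/
noncomputable def stageEquiv : R ⊗[T] (T ⊗[A] B) ≃ₐ[R] C :=
  (Algebra.TensorProduct.cancelBaseChange A T R R B).trans e

/-- The comultiplication of a lift. -/
noncomputable def liftComul (g : B →ₐ[A] T ⊗[A] (B ⊗[A] B)) : T ⊗[A] B →ₐ[T] (T ⊗[A] B) ⊗[T] (T ⊗[A] B) :=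
  (tp (A := A) T (B₁ := B) (B₂ := B)).toAlgHom.comp (Algebra.TensorProduct.lift (Algebra.ofId _ _) g fun _ _ => Commute.all _ _)

/-- The counit of a lift. -/
noncomputable def liftCounit (g : B →ₐ[A] T) : T ⊗[A] B →ₐ[T] T :=
  Algebra.TensorProduct.lift (AlgHom.id T T) g fun _ _ => Commute.all _ _

/-- The antipode of a lift. -/
noncomputable def liftAnti (g : B →ₐ[A] T ⊗[A] B) : T ⊗[A] B →ₐ[T] T ⊗[A] B :=
  Algebra.TensorProduct.lift (Algebra.ofId _ _) g fun _ _ => Commute.all _ _

/-- Lifts to a stage are compatible. -/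
theorem compat_lift (gd : B →ₐ[A] T ⊗[A] (B ⊗[A] B)) (ge : B →ₐ[A] T) (gs : B →ₐ[A] T ⊗[A] B)
    (hd : ∀ b, Algebra.TensorProduct.map (IsScalarTower.toAlgHom A T R) (AlgHom.id A _) (gd b) = comulOn e b)
    (he : ∀ b, algebraMap T R (ge b) = counitOn e b)
    (hs : ∀ b, Algebra.TensorProduct.map (IsScalarTower.toAlgHom A T R) (AlgHom.id A _) (gs b) = antiOn e b) :
    Compat (stageEquiv e T) (liftComul T gd) (liftCounit T ge) (liftAnti T gs) := by
  let c := Algebra.TensorProduct.cancelBaseChange A T R R B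
  have hx : ∀ (r : R) (t : T) (b : B),
      stageEquiv e T (r ⊗ₜ[T] (t ⊗ₜ[A] b)) = (r * algebraMap T R t) • e ((1 : R) ⊗ₜ b) := fun r t b => by
    rw [← map_smul, TensorProduct.smul_tmul', smul_eq_mul, mul_one]
    simp [stageEquiv, Algebra.smul_def, mul_comm]
  have hS : ∀ z : R ⊗[T] (T ⊗[A] B) ⊗[R] (R ⊗[T] (T ⊗[A] B)),
      Algebra.TensorProduct.map (stageEquiv e T).toAlgHom (stageEquiv e T).toAlgHom z =
        Algebra.TensorProduct.map e.toAlgHom e.toAlgHom (Algebra.TensorProduct.map c.toAlgHom c.toAlgHom z) := by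
    intro z
    induction z with
    | zero => simp
    | add p q hp hq => simp only [map_add, hp, hq]
    | tmul p q => simp [stageEquiv, c]
  refine ⟨fun x => ?_, fun x => ?_, fun x => ?_⟩
  · induction x with
    | zero => simp
    | add p q hp hq => simp only [map_add, hp, hq]
    | tmul r z =>
      induction z with
      | zero => simp
      | add p q hp hq => simp only [TensorProduct.tmul_add, map_add, hp, hq]
      | tmul t b =>
        rw [dlt_tmul, hS, liftComul, AlgHom.comp_apply, AlgEquiv.coe_toAlgHom]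
        erw [cancel_tp]
        rw [map_smul, hx, map_smul, ← map_e_tp_comulOn, Algebra.TensorProduct.lift_tmul, map_mul, hd,
          Algebra.ofId_apply, Algebra.TensorProduct.algebraMap_apply, Algebra.TensorProduct.map_tmul, map_one,
          map_mul, map_mul]
        rw [show (algebraMap T T) t = t from rfl, show (IsScalarTower.toAlgHom A T R) t ⊗ₜ[A] (1 : B ⊗[A] B) =
          algebraMap R (R ⊗[A] (B ⊗[A] B)) (algebraMap T R t) from rfl, AlgEquiv.commutes, AlgHom.commutes,
          ← Algebra.smul_def, smul_smul]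
  · induction x with
    | zero => simp
    | add p q hp hq => simp only [map_add, hp, hq]
    | tmul r z =>
      induction z with
      | zero => simp
      | add p q hp hq => simp only [TensorProduct.tmul_add, map_add, hp, hq]
      | tmul t b =>
        rw [hx, map_smul, eps_tmul, smul_eq_mul, liftCounit, Algebra.TensorProduct.lift_tmul, map_mul, he]
        simp [counitOn, mul_assoc]
  · induction x with
    | zero => simp
    | add p q hp hq => simp only [map_add, hp, hq]
    | tmul r z =>
      induction z with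
      | zero => simp
      | add p q hp hq => simp only [TensorProduct.tmul_add, map_add, hp, hq]
      | tmul t b =>
        rw [hx, map_smul, sig_tmul, liftAnti, Algebra.TensorProduct.lift_tmul, Algebra.ofId_apply,
          Algebra.TensorProduct.algebraMap_apply]
        have := congrArg e (hs b)
        simp only [antiOn, AlgHom.comp_apply, AlgHom.restrictScalars_apply, AlgEquiv.coe_toAlgHom,
          AlgEquiv.apply_symm_apply, Algebra.TensorProduct.includeRight_apply] at this
        rw [show HopfAlgebra.antipode R (e ((1 : R) ⊗ₜ b)) = HopfAlgebra.antipodeAlgHom R C (e ((1 : R) ⊗ₜ b)) from rfl,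
          ← this]
        induction gs b with
        | zero => simp
        | add p q hp hq => simp only [mul_add, TensorProduct.tmul_add, map_add, smul_add, hp, hq]
        | tmul s y =>
          rw [Algebra.TensorProduct.tmul_mul_tmul, hx, Algebra.TensorProduct.map_tmul, one_mul]
          rw [show (IsScalarTower.toAlgHom A T R) s = algebraMap T R s from rfl, AlgHom.id_apply,
            show (algebraMap T T) t = t from rfl, map_mul, ← mul_assoc]
          conv_rhs => rw [← smul_smul]
          congr 1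
          rw [← map_smul, TensorProduct.smul_tmul', smul_eq_mul, mul_one]

end

theorem tensorTensorTensorComm_eq_tp {A : Type u} [CommRing A] [Algebra A R] {B : Type u} [CommRing B] [Algebra A B]
    (r : R) (z : B ⊗[A] B) :
    TensorProduct.AlgebraTensorModule.tensorTensorTensorComm A R A R R R B B (((1 : R) ⊗ₜ[R] r) ⊗ₜ[A] z) =
      tp R (r ⊗ₜ z) := by
  induction z with
  | zero => simp
  | add p q hp hq => simp only [TensorProduct.tmul_add, map_add, hp, hq]
  | tmul p q =>
    rw [TensorProduct.AlgebraTensorModule.tensorTensorTensorComm_tmul, tp_tmul]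
    rw [show (r ⊗ₜ[A] q : R ⊗[A] B) = r • ((1 : R) ⊗ₜ q) by rw [TensorProduct.smul_tmul', smul_eq_mul, mul_one],
      TensorProduct.tmul_smul]

/-- An algebra isomorphism compatible with the operations is one of bialgebras. -/
theorem nonempty_bialgEquiv {A : Type u} [CommRing A] [Algebra A R] {B : Type u} [CommRing B] [Bialgebra A B]
    (e : R ⊗[A] B ≃ₐ[R] C)
    (h₁ : ∀ x, Algebra.TensorProduct.map e.toAlgHom e.toAlgHom (dlt R (Bialgebra.comulAlgHom A B) x) =
      Coalgebra.comul (R := R) (e x))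
    (h₂ : ∀ x, Coalgebra.counit (R := R) (e x) = eps R (Bialgebra.counitAlgHom A B) x) :
    Nonempty (R ⊗[A] B ≃ₐc[R] C) := by
  refine ⟨BialgEquiv.ofAlgEquiv (A := R ⊗[A] B) (B := C) e (AlgHom.ext fun x => ?_) (AlgHom.ext fun x => ?_)⟩
  · show Coalgebra.counit (R := R) (e x) = Coalgebra.counit (R := R) x
    rw [h₂]
    induction x with
    | zero => simp
    | add p q hp hq => simp only [map_add, hp, hq]
    | tmul r b =>
      rw [eps_tmul, TensorProduct.counit_tmul]
      show r * algebraMap A R (Coalgebra.counit (R := A) b) = Coalgebra.counit (R := A) b • Coalgebra.counit (R := R) r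
      rw [CommSemiring.counit_apply, Algebra.smul_def, mul_comm]
  · show Algebra.TensorProduct.map e.toAlgHom e.toAlgHom (Coalgebra.comul (R := R) x) =
      Coalgebra.comul (R := R) (e x)
    rw [← h₁]
    congr 1
    induction x with
    | zero => simp
    | add p q hp hq => simp only [map_add, hp, hq]
    | tmul r b =>
      rw [dlt_tmul, TensorProduct.comul_tmul, CommSemiring.comul_apply]
      exact tensorTensorTensorComm_eq_tp r (Coalgebra.comul (R := A) b)

theorem Compat.nonempty_equiv {A : Type u} [CommRing A] [Algebra A R] {B : Type u} [CommRing B] [Algebra A B]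
    {e : R ⊗[A] B ≃ₐ[R] C} {δ : B →ₐ[A] B ⊗[A] B} {ε : B →ₐ[A] A} {σ : B →ₐ[A] B} (hc : Compat e δ ε σ)
    (hdata : IsHopfData δ ε σ) : letI := hdata.hopf; Nonempty (R ⊗[A] B ≃ₐc[R] C) := by
  letI := hdata.hopf
  exact nonempty_bialgEquiv e hc.comul hc.counit

theorem exists_ops [Algebra.FinitePresentation R C] :
    ∃ (A : Type u) (_ : CommRing A) (_ : IsNoetherianRing A) (_ : Algebra A R) (B : Type u) (_ : CommRing B)
      (_ : Algebra A B) (e : R ⊗[A] B ≃ₐ[R] C) (δ : B →ₐ[A] B ⊗[A] B) (ε : B →ₐ[A] A) (σ : B →ₐ[A] B),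
      Algebra.FinitePresentation A B ∧ Compat e δ ε σ := by
  classical
  let P := Algebra.Presentation.ofFinitePresentation R C
  let A := P.Core
  let B := P.ModelOfHasCoeffs A
  let e : R ⊗[A] B ≃ₐ[R] C := P.tensorModelOfHasCoeffsEquiv A
  haveI : IsNoetherianRing A := Algebra.FiniteType.isNoetherianRing ℤ A
  -- lift the operations
  obtain ⟨S₁, hS₁, gd, hgd⟩ := exists_hom_stage (comulOn e)
  obtain ⟨S₂, hS₂, gs, hgs⟩ := exists_hom_stage (antiOn e)
  obtain ⟨G, hG⟩ := (inferInstance : Algebra.FiniteType A B).out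
  have hrange : (counitOn e).range.FG := ⟨G.image (counitOn e), by
    rw [Finset.coe_image, ← AlgHom.map_adjoin, hG, Algebra.map_top]⟩
  let S : Subalgebra A R := S₁ ⊔ S₂ ⊔ (counitOn e).range
  have hS : S.FG := (hS₁.sup hS₂).sup hrange
  haveI : Algebra.FiniteType A S := (Subalgebra.fg_iff_finiteType S).1 hS
  haveI : IsNoetherianRing S := Algebra.FiniteType.isNoetherianRing A S
  have hv : ∀ {S' : Subalgebra A R} (h : S' ≤ S) {X : Type u} [CommRing X] [Algebra A X] (z : S' ⊗[A] X),
      Algebra.TensorProduct.map (IsScalarTower.toAlgHom A S R) (AlgHom.id A X)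
        (Algebra.TensorProduct.map (Subalgebra.inclusion h) (AlgHom.id A X) z) =
          Algebra.TensorProduct.map S'.val (AlgHom.id A X) z := fun h X _ _ z => map_comp_left _ _ z
  have h₁ : S₁ ≤ S := le_sup_left.trans le_sup_left
  have h₂ : S₂ ≤ S := le_sup_right.trans le_sup_left
  let e₁ := stageEquiv e S
  have hc₁ : Compat e₁ _ _ _ := compat_lift e S
    ((Algebra.TensorProduct.map (Subalgebra.inclusion h₁) (AlgHom.id A _)).comp gd)
    ((counitOn e).codRestrict S fun b => (le_sup_right : _ ≤ S) ⟨b, rfl⟩)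
    ((Algebra.TensorProduct.map (Subalgebra.inclusion h₂) (AlgHom.id A _)).comp gs)
    (fun b => (hv h₁ _).trans (hgd b)) (fun b => rfl) (fun b => (hv h₂ _).trans (hgs b))
  exact ⟨S, inferInstance, inferInstance, inferInstance, S ⊗[A] B, inferInstance, inferInstance, e₁, _, _, _,
    inferInstance, hc₁⟩

theorem exists_axioms {A : Type u} [CommRing A] [IsNoetherianRing A] [Algebra A R] {B : Type u} [CommRing B]
    [Algebra A B] [Algebra.FinitePresentation A B] {e : R ⊗[A] B ≃ₐ[R] C} {δ : B →ₐ[A] B ⊗[A] B} {ε : B →ₐ[A] A}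
    {σ : B →ₐ[A] B} (hc : Compat e δ ε σ) :
    ∃ (A' : Type u) (_ : CommRing A') (_ : IsNoetherianRing A') (_ : Algebra A' R) (B' : Type u) (_ : CommRing B')
      (_ : HopfAlgebra A' B'), Algebra.FinitePresentation A' B' ∧ Nonempty (R ⊗[A'] B' ≃ₐc[R] C) := by
  classical
  have hax := (isHopfData_iff δ ε σ).1 hc.isHopfData
  obtain ⟨T₁, hT₁, k₁⟩ := exists_eq_stage (A := A) (R := R) (B := B) (X := B ⊗[A] (B ⊗[A] B))
    (((Algebra.TensorProduct.assoc A A A B B B).toAlgHom.comp (Algebra.TensorProduct.map δ (AlgHom.id A B))).comp δ)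
    ((Algebra.TensorProduct.map (AlgHom.id A B) δ).comp δ) fun b => (hax b).1
  obtain ⟨T₂, hT₂, k₂⟩ := exists_eq_stage (A := A) (R := R) (B := B) (X := B)
    (((Algebra.TensorProduct.lid A B).toAlgHom.comp (Algebra.TensorProduct.map ε (AlgHom.id A B))).comp δ)
    (AlgHom.id A B) fun b => (hax b).2.1
  obtain ⟨T₃, hT₃, k₃⟩ := exists_eq_stage (A := A) (R := R) (B := B) (X := B)
    (((Algebra.TensorProduct.rid A A B).toAlgHom.comp (Algebra.TensorProduct.map (AlgHom.id A B) ε)).comp δ)
    (AlgHom.id A B) fun b => (hax b).2.2.1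
  obtain ⟨T₄, hT₄, k₄⟩ := exists_eq_stage (A := A) (R := R) (B := B) (X := B)
    (((Algebra.TensorProduct.lmul' A).comp (Algebra.TensorProduct.map σ (AlgHom.id A B))).comp δ)
    ((Algebra.ofId A B).comp ε) fun b => (hax b).2.2.2.1
  obtain ⟨T₅, hT₅, k₅⟩ := exists_eq_stage (A := A) (R := R) (B := B) (X := B)
    (((Algebra.TensorProduct.lmul' A).comp (Algebra.TensorProduct.map (AlgHom.id A B) σ)).comp δ)
    ((Algebra.ofId A B).comp ε) fun b => (hax b).2.2.2.2
  let T : Subalgebra A R := T₁ ⊔ T₂ ⊔ T₃ ⊔ T₄ ⊔ T₅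
  have hT : T.FG := (((hT₁.sup hT₂).sup hT₃).sup hT₄).sup hT₅
  haveI : Algebra.FiniteType A T := (Subalgebra.fg_iff_finiteType T).1 hT
  haveI : IsNoetherianRing T := Algebra.FiniteType.isNoetherianRing A T
  let e₂ := stageEquiv e T
  have hc₂ : Compat e₂ _ _ _ := compat_lift e T
    (Algebra.TensorProduct.includeRight.comp δ) ((Algebra.ofId A T).comp ε) (Algebra.TensorProduct.includeRight.comp σ)
    (fun b => by rw [hc.comulOn_eq]; simp) (fun b => by
      rw [hc.counitOn_eq]
      exact (IsScalarTower.algebraMap_apply A T R _).symm) (fun b => by rw [hc.antiOn_eq]; simp)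
  have hd : liftComul T (Algebra.TensorProduct.includeRight.comp δ) = dlt T δ :=
    Algebra.TensorProduct.ext (by ext) (AlgHom.ext fun b => by
      simp [liftComul, dlt, Algebra.TensorProduct.one_def]
      rw [← Algebra.TensorProduct.one_def, one_mul])
  have hsg : liftAnti T (Algebra.TensorProduct.includeRight.comp σ) = sig T σ :=
    Algebra.TensorProduct.ext (by ext) (AlgHom.ext fun b => by simp [liftAnti, sig])
  rw [hd, hsg, show liftCounit T ((Algebra.ofId A T).comp ε) = eps T ε from rfl] at hc₂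
  have hdata : IsHopfData (dlt T δ) (eps T ε) (sig T σ) := (isHopfData_iff δ ε σ).2 fun b =>
    ⟨k₁ T (((le_sup_left.trans le_sup_left).trans le_sup_left).trans le_sup_left) b,
      k₂ T (((le_sup_right.trans le_sup_left).trans le_sup_left).trans le_sup_left) b,
      k₃ T ((le_sup_right.trans le_sup_left).trans le_sup_left) b,
      k₄ T (le_sup_right.trans le_sup_left) b, k₅ T le_sup_right b⟩
  exact ⟨T, inferInstance, inferInstance, inferInstance, T ⊗[A] B, inferInstance, hdata.hopf, inferInstance,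
    hc₂.nonempty_equiv hdata⟩

/-- A finitely presented Hopf algebra is defined over a noetherian ring. -/
theorem exists_model [Algebra.FinitePresentation R C] :
    ∃ (A : Type u) (_ : CommRing A) (_ : IsNoetherianRing A) (_ : Algebra A R) (B : Type u) (_ : CommRing B)
      (_ : HopfAlgebra A B), Algebra.FinitePresentation A B ∧ Nonempty (R ⊗[A] B ≃ₐc[R] C) := by
  obtain ⟨A, _, _, _, B, _, _, e, δ, ε, σ, _, hc⟩ := exists_ops (R := R) (C := C)
  exact exists_axioms hc

end Groth.Agent.MultFib
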