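import Groth.Agent.MultFib.Descent
import Groth.Agent.FlatStage.Alg
import Groth.Agent.FlatLocus.Main
import Groth.Agent.PullbackMod.Flat
/-!
Flatness along the closed fibre comes from a noetherian local stage.
-/

set_option autoImplicit false
set_option linter.style.haveILetI false
set_option linter.unusedSectionVars false

universe u

open TensorProduct
open scoped TensorProduct

namespace Groth.Agent.MultFib

variable {A : Type u} [CommRing A] {B : Type u} [CommRing B] [Algebra A B]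

/-- The localisation as a localised module. -/
noncomputable def localizedEquiv {S : Type u} [CommRing S] [Algebra A S] (P : Ideal S) [P.IsPrime] :
    LocalizedModule P.primeCompl S ≃ₗ[A] Localization.AtPrime P :=
  (IsLocalizedModule.iso P.primeCompl (Algebra.linearMap S (Localization.AtPrime P))).restrictScalars A

/-- Flatness at a prime ascends to base changes. -/
theorem flat_ascent {S T : Type u} [CommRing S] [Algebra A S] [CommRing T] [Algebra A T] (φ : S →ₐ[A] T)
    (Q : Ideal (T ⊗[A] B)) [Q.IsPrime] (P : Ideal (S ⊗[A] B)) [P.IsPrime]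
    (hP : P = Q.comap (Algebra.TensorProduct.map φ (AlgHom.id A B)).toRingHom)
    (h : Module.Flat S (Localization.AtPrime P)) : Module.Flat T (Localization.AtPrime Q) := by
  let ψ := Algebra.TensorProduct.map φ (AlgHom.id A B)
  letI : Algebra S T := φ.toRingHom.toAlgebra
  haveI : IsScalarTower A S T := IsScalarTower.of_algebraMap_eq fun x => (φ.commutes x).symm
  letI : Algebra (S ⊗[A] B) (T ⊗[A] B) := ψ.toRingHom.toAlgebra
  haveI : IsScalarTower S (S ⊗[A] B) (T ⊗[A] B) := IsScalarTower.of_algebraMap_eq fun s => by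
    show (algebraMap S T s) ⊗ₜ[A] (1 : B) = ψ (s ⊗ₜ 1)
    simp [ψ]
    all_goals rfl
  let e : T ⊗[S] (S ⊗[A] B) ≃ₐ[T] T ⊗[A] B := Algebra.TensorProduct.cancelBaseChange A S T T B
  haveI : Algebra.IsPushout S T (S ⊗[A] B) (T ⊗[A] B) := by
    letI : Algebra (S ⊗[A] B) (T ⊗[S] (S ⊗[A] B)) := Algebra.TensorProduct.rightAlgebra
    refine Algebra.IsPushout.of_equiv (S' := T ⊗[S] (S ⊗[A] B)) e (RingHom.ext fun z => ?_)
    show e ((1 : T) ⊗ₜ z) = ψ z
    induction z with
    | zero => simp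
    | add p q hp hq => simp only [TensorProduct.tmul_add, map_add, hp, hq]
    | tmul s b =>
      simp [e, ψ, Algebra.smul_def]
      all_goals rfl
  haveI : Module.Flat S (LocalizedModule P.primeCompl (S ⊗[A] B)) :=
    Module.Flat.of_linearEquiv (localizedEquiv (A := S) P)
  refine PullbackMod.flat_localized_pushout (A := S) (A' := T) (B := S ⊗[A] B) (B' := T ⊗[A] B)
    (Algebra.linearMap (S ⊗[A] B) (T ⊗[A] B)) (IsBaseChange.linearMap _ _) P.primeCompl Q.primeCompl ?_
    (Algebra.linearMap (T ⊗[A] B) (Localization.AtPrime Q))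
  rintro _ ⟨x, hx, rfl⟩
  subst hP
  exact hx

/-- A prime over the closed point lifts to a larger local ring. -/
theorem exists_prime_over {S T : Type u} [CommRing S] [IsLocalRing S] [Algebra A S] [CommRing T] [IsLocalRing T]
    [Algebra A T] (φ : S →ₐ[A] T) [IsLocalHom φ.toRingHom] (Q : Ideal (S ⊗[A] B)) [Q.IsPrime]
    (hQ : Ideal.map (algebraMap S (S ⊗[A] B)) (IsLocalRing.maximalIdeal S) ≤ Q) :
    ∃ q : Ideal (T ⊗[A] B), q.IsPrime ∧
      Ideal.map (algebraMap T (T ⊗[A] B)) (IsLocalRing.maximalIdeal T) ≤ q ∧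
      Q = q.comap (Algebra.TensorProduct.map φ (AlgHom.id A B)).toRingHom := by
  let κ := IsLocalRing.ResidueField S
  let κ' := IsLocalRing.ResidueField T
  let L := Q.ResidueField
  letI : Algebra κ κ' := (IsLocalRing.ResidueField.map φ.toRingHom).toAlgebra
  letI : Algebra κ L := (Ideal.Quotient.lift (IsLocalRing.maximalIdeal S) (algebraMap S L) fun s hs => by
    rw [IsScalarTower.algebraMap_apply S (S ⊗[A] B) L, Ideal.algebraMap_residueField_eq_zero]
    exact hQ (Ideal.mem_map_of_mem _ hs)).toAlgebra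
  haveI : Nontrivial (κ' ⊗[κ] L) := inferInstance
  obtain ⟨K, _, _, i, j, hij, hjm⟩ : ∃ (K : Type u) (_ : CommRing K) (_ : IsDomain K) (i : L →+* K) (j : T →+* K),
      (∀ s, j (φ s) = i (algebraMap S L s)) ∧ ∀ t ∈ IsLocalRing.maximalIdeal T, j t = 0 := by
    obtain ⟨W, hW⟩ := Ideal.exists_maximal (κ' ⊗[κ] L)
    refine ⟨(κ' ⊗[κ] L) ⧸ W, inferInstance, inferInstance,
      (Ideal.Quotient.mk W).comp Algebra.TensorProduct.includeRight.toRingHom,
      ((Ideal.Quotient.mk W).comp (algebraMap κ' (κ' ⊗[κ] L))).comp (IsLocalRing.residue T), fun s => ?_, fun t ht => ?_⟩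
    · show Ideal.Quotient.mk W (algebraMap κ κ' (IsLocalRing.residue S s) ⊗ₜ[κ] (1 : L)) =
        Ideal.Quotient.mk W ((1 : κ') ⊗ₜ[κ] algebraMap κ L (IsLocalRing.residue S s))
      rw [Algebra.algebraMap_eq_smul_one, Algebra.algebraMap_eq_smul_one, TensorProduct.smul_tmul]
    · show Ideal.Quotient.mk W (algebraMap κ' _ (IsLocalRing.residue T t)) = 0
      rw [(IsLocalRing.residue_eq_zero_iff t).2 ht, map_zero, map_zero]
  letI : Algebra A K := (j.comp (algebraMap A T)).toAlgebra
  let jA : T →ₐ[A] K := AlgHom.mk' j fun a t => by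
    rw [Algebra.smul_def, Algebra.smul_def, map_mul]; rfl
  have hA : ∀ a, i (algebraMap A L a) = algebraMap A K a := fun a => by
    show _ = j (algebraMap A T a)
    rw [← φ.commutes, hij, ← IsScalarTower.algebraMap_apply]
  let iA : B →ₐ[A] K := AlgHom.mk' (i.comp ((algebraMap (S ⊗[A] B) L).comp Algebra.TensorProduct.includeRight.toRingHom))
    fun a b => by
      rw [Algebra.smul_def, Algebra.smul_def, map_mul]
      congr 1
      show i (algebraMap (S ⊗[A] B) L ((Algebra.TensorProduct.includeRight : B →ₐ[A] S ⊗[A] B) (algebraMap A B a))) =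
        algebraMap A K a
      rw [AlgHom.commutes, ← IsScalarTower.algebraMap_apply, hA]
  let Φ : T ⊗[A] B →ₐ[A] K := Algebra.TensorProduct.lift jA iA fun _ _ => Commute.all _ _
  have hcomp : ∀ z, Φ (Algebra.TensorProduct.map φ (AlgHom.id A B) z) = i (algebraMap (S ⊗[A] B) L z) := by
    intro z
    induction z with
    | zero => simp
    | add p q hp hq => simp only [map_add, hp, hq]
    | tmul s b =>
      rw [show s ⊗ₜ[A] b = (s ⊗ₜ[A] (1 : B)) * ((1 : S) ⊗ₜ b) by simp, map_mul, map_mul, map_mul, map_mul]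
      congr 1
      · show Φ (φ s ⊗ₜ 1) = i (algebraMap (S ⊗[A] B) L (algebraMap S (S ⊗[A] B) s))
        rw [← IsScalarTower.algebraMap_apply]
        show jA (φ s) * iA 1 = _
        rw [map_one, mul_one]
        exact hij s
      · simp [Φ, iA]
  refine ⟨RingHom.ker Φ.toRingHom, RingHom.ker_isPrime _, Ideal.map_le_iff_le_comap.2 fun t ht => ?_,
    Ideal.ext fun z => ?_⟩
  · show Φ (t ⊗ₜ[A] (1 : B)) = 0
    show jA t * iA 1 = 0
    rw [map_one, mul_one]
    exact hjm t ht
  · show z ∈ Q ↔ Φ (Algebra.TensorProduct.map φ (AlgHom.id A B) z) = 0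
    rw [hcomp, map_eq_zero_iff i i.injective, Ideal.algebraMap_residueField_eq_zero]

/-- A noetherian local stage which is flat along the closed fibre. -/
theorem exists_local_stage {R : Type u} [CommRing R] [IsLocalRing R] [IsNoetherianRing A] [Algebra A R]
    [Algebra.FinitePresentation A B]
    (hfl : ∀ (q : Ideal (R ⊗[A] B)) [q.IsPrime],
      Ideal.map (algebraMap R (R ⊗[A] B)) (IsLocalRing.maximalIdeal R) ≤ q → Module.Flat R (Localization.AtPrime q)) :
    ∃ (R₀ : Type u) (_ : CommRing R₀) (_ : Algebra A R₀) (_ : IsLocalRing R₀) (_ : IsNoetherianRing R₀)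
      (φ : R₀ →ₐ[A] R), IsLocalHom φ.toRingHom ∧ ∀ (q : Ideal (R₀ ⊗[A] B)) [q.IsPrime],
        Ideal.map (algebraMap R₀ (R₀ ⊗[A] B)) (IsLocalRing.maximalIdeal R₀) ≤ q →
          Module.Flat R₀ (Localization.AtPrime q) := by
  classical
  let Sys := fgSys A R
  let β : ∀ k : Sys.J, k.1 ⊗[A] B →ₐ[A] R ⊗[A] B := fun k => Algebra.TensorProduct.map k.1.val (AlgHom.id A B)
  let U : ∀ k : Sys.J, Set (PrimeSpectrum (k.1 ⊗[A] B)) := fun k =>
    {P | Module.Flat k.1 (LocalizedModule P.asIdeal.primeCompl (k.1 ⊗[A] B))}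
  let V : Sys.J → Set (PrimeSpectrum (R ⊗[A] B)) := fun k => PrimeSpectrum.comap (β k).toRingHom ⁻¹' U k
  have hV : ∀ k, IsOpen (V k) := fun k =>
    (FlatLocus.isOpen_flat_locus (R := k.1) (S := k.1 ⊗[A] B) (M := k.1 ⊗[A] B)).preimage
      (PrimeSpectrum.continuous_comap (β k).toRingHom)
  let Z : Set (PrimeSpectrum (R ⊗[A] B)) :=
    PrimeSpectrum.zeroLocus (Ideal.map (algebraMap R (R ⊗[A] B)) (IsLocalRing.maximalIdeal R) : Set (R ⊗[A] B))
  have hcov : Z ⊆ ⋃ k, V k := by
    intro q hq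
    letI : Algebra B (R ⊗[A] B) := Algebra.TensorProduct.rightAlgebra
    haveI : Module.Flat R (LocalizedModule q.asIdeal.primeCompl (R ⊗[A] B)) :=
      haveI := hfl q.asIdeal hq
      Module.Flat.of_linearEquiv (localizedEquiv (A := R) q.asIdeal)
    obtain ⟨k, -, hk⟩ := FlatStage.exists_stage (A := A) (B := B) (M := B) Sys ⟨⊥, Subalgebra.fg_bot⟩
      (R ⊗[A] B) (R ⊗[A] B) (Algebra.linearMap B (R ⊗[A] B)) (IsBaseChange.linearMap _ _) q
    letI : Algebra B (k.1 ⊗[A] B) := Algebra.TensorProduct.rightAlgebra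
    refine Set.mem_iUnion.2 ⟨k, ?_⟩
    exact hk (k.1 ⊗[A] B) (k.1 ⊗[A] B) (Algebra.linearMap B (k.1 ⊗[A] B)) (IsBaseChange.linearMap _ _)
      (β k).toRingHom (fun r => by simp [β]; rfl) (fun b => by
        show β k ((1 : k.1) ⊗ₜ b) = (1 : R) ⊗ₜ b
        simp [β])
  obtain ⟨t, ht⟩ := (PrimeSpectrum.isClosed_zeroLocus _).isCompact.elim_finite_subcover V hV hcov
  let k : Subalgebra A R := t.sup fun i => i.1
  have hk : k.FG := Finset.sup_induction Subalgebra.fg_bot (fun _ ha _ hb => ha.sup hb) fun i _ => i.2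
  haveI : Algebra.FiniteType A k := (Subalgebra.fg_iff_finiteType k).1 hk
  haveI : IsNoetherianRing k := Algebra.FiniteType.isNoetherianRing A k
  let p : Ideal k := (IsLocalRing.maximalIdeal R).comap k.val.toRingHom
  haveI : p.IsPrime := Ideal.IsPrime.comap _
  let R₀ := Localization.AtPrime p
  let φ : R₀ →ₐ[A] R := IsLocalization.liftAlgHom (M := p.primeCompl) (f := k.val) fun y => by
    by_contra hy
    exact y.2 hy
  have hφ : ∀ x, φ (algebraMap k R₀ x) = k.val x := fun x => IsLocalization.lift_eq _ _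
  haveI hloc : IsLocalHom φ.toRingHom := ⟨fun x hx => by
    obtain ⟨⟨a, s⟩, hs⟩ := IsLocalization.surj p.primeCompl x
    have h1 : IsUnit (φ (algebraMap k R₀ a)) := by
      rw [← hs, map_mul]
      exact IsUnit.mul hx (IsUnit.map φ (IsLocalization.map_units R₀ s))
    rw [hφ] at h1
    have h2 : IsUnit (algebraMap k R₀ a) := IsLocalization.map_units R₀ (⟨a, fun ha => ha h1⟩ : p.primeCompl)
    rw [← hs] at h2
    exact isUnit_of_mul_isUnit_left h2⟩
  refine ⟨R₀, inferInstance, inferInstance, inferInstance, IsLocalization.isNoetherianRing p.primeCompl R₀ inferInstance,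
    φ, hloc, fun Q hQp hQ => ?_⟩
  obtain ⟨q, hqp, hqm, hQq⟩ := exists_prime_over φ Q hQ
  obtain ⟨i, hit, hqi⟩ := Set.mem_iUnion₂.1 (ht (show (⟨q, hqp⟩ : PrimeSpectrum (R ⊗[A] B)) ∈ Z from hqm))
  let P : Ideal (i.1 ⊗[A] B) := q.comap (β i).toRingHom
  haveI : P.IsPrime := Ideal.IsPrime.comap _
  have hflat : Module.Flat i.1 (Localization.AtPrime P) :=
    haveI : Module.Flat i.1 (LocalizedModule P.primeCompl (i.1 ⊗[A] B)) := hqi
    Module.Flat.of_linearEquiv (localizedEquiv (A := i.1) P).symm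
  refine flat_ascent ((IsScalarTower.toAlgHom A k R₀).comp
    (Subalgebra.inclusion (Finset.le_sup (f := fun i : Sys.J => i.1) hit))) Q P ?_ hflat
  rw [hQq]
  refine Ideal.ext fun z => ?_
  show β i z ∈ q ↔ Algebra.TensorProduct.map φ (AlgHom.id A B) (Algebra.TensorProduct.map _ (AlgHom.id A B) z) ∈ q
  rw [map_comp_left]
  refine iff_of_eq (congrArg (· ∈ q) ?_)
  exact congrArg (fun f => Algebra.TensorProduct.map f (AlgHom.id A B) z) (AlgHom.ext fun x =>
    (hφ (Subalgebra.inclusion (Finset.le_sup (f := fun i : Sys.J => i.1) hit) x)).symm)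

end Groth.Agent.MultFib
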