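import Groth.Agent.PullbackMod.ColimTensor
/-!
Descent of homomorphisms to finitely generated subalgebras of the coefficient ring.
-/

set_option autoImplicit false
set_option linter.style.haveILetI false

universe u

open TensorProduct
open scoped TensorProduct

namespace Groth.Agent.MultFib

/-- The system of finitely generated subalgebras. -/
noncomputable abbrev fgSys (A R : Type u) [CommRing A] [CommRing R] [Algebra A R] :
    PullbackMod.AlgSystem A R where
  J := {S : Subalgebra A R // S.FG}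
  R j := j.1
  ρ j := j.1.val
  Hom j k := ULift.{u} (PLift (j.1 ≤ k.1))
  τ f := Subalgebra.inclusion f.down.down
  comm f := rfl
  comp f g := ⟨⟨⟨f.down.down.trans g.down.down⟩⟩, rfl⟩
  surj j b := ⟨⟨j.1 ⊔ Algebra.adjoin A {b}, j.2.sup ⟨{b}, by simp⟩⟩, ⟨⟨le_sup_left⟩⟩,
    ⟨b, (le_sup_right : Algebra.adjoin A {b} ≤ j.1 ⊔ Algebra.adjoin A {b}) (Algebra.subset_adjoin rfl)⟩, rfl⟩
  inj j a h := ⟨j, ⟨⟨le_rfl⟩⟩, Subtype.ext h⟩

variable {A R : Type u} [CommRing A] [CommRing R] [Algebra A R] {B X : Type u} [CommRing B] [Algebra A B]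
  [CommRing X] [Algebra A X]

theorem rTensor_eq_map {S T : Type u} [CommRing S] [Algebra A S] [CommRing T] [Algebra A T] (φ : S →ₐ[A] T)
    (z : S ⊗[A] X) : φ.toLinearMap.rTensor X z = Algebra.TensorProduct.map φ (AlgHom.id A X) z := by
  induction z with
  | zero => simp
  | tmul s x => simp
  | add a b ha hb => simp only [map_add, ha, hb]

theorem map_comp_left {S T U : Type u} [CommRing S] [Algebra A S] [CommRing T] [Algebra A T] [CommRing U]
    [Algebra A U] (φ : S →ₐ[A] T) (ψ : T →ₐ[A] U) (z : S ⊗[A] X) :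
    Algebra.TensorProduct.map ψ (AlgHom.id A X) (Algebra.TensorProduct.map φ (AlgHom.id A X) z) =
      Algebra.TensorProduct.map (ψ.comp φ) (AlgHom.id A X) z := by
  induction z with
  | zero => simp
  | tmul s x => simp
  | add a b ha hb => simp only [map_add, ha, hb]

/-- A homomorphism from a finitely presented algebra comes from a finitely generated subalgebra. -/
theorem exists_hom_stage [Algebra.FinitePresentation A B] (f : B →ₐ[A] R ⊗[A] X) :
    ∃ (S : Subalgebra A R) (_ : S.FG) (g : B →ₐ[A] S ⊗[A] X),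
      ∀ b, Algebra.TensorProduct.map S.val (AlgHom.id A X) (g b) = f b := by
  classical
  obtain ⟨n, π, hπ, hker⟩ := Algebra.FinitePresentation.out (R := A) (A := B)
  let Sys := fgSys A R
  have hgen : ∀ t : Finset (Fin n), ∃ k : Sys.J, ∀ i ∈ t, ∃ y : Sys.R k ⊗[A] X,
      (Sys.ρ k).toLinearMap.rTensor X y = f (π (MvPolynomial.X i)) := by
    intro t
    induction t using Finset.induction with
    | empty => exact ⟨(⟨⊥, Subalgebra.fg_bot⟩ : {S : Subalgebra A R // S.FG}), by simp⟩
    | insert i t _ ih =>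
      obtain ⟨k, hk⟩ := ih
      obtain ⟨l, g, y, hy⟩ := Sys.exists_lift k (f (π (MvPolynomial.X i)))
      refine ⟨l, fun i' hi' => ?_⟩
      rcases Finset.mem_insert.1 hi' with rfl | hi'
      · exact ⟨y, hy⟩
      · obtain ⟨y', hy'⟩ := hk i' hi'
        exact ⟨_, (Sys.rho_tau g y').trans hy'⟩
  obtain ⟨k, hk⟩ := hgen Finset.univ
  choose y hy using fun i => hk i (Finset.mem_univ i)
  let φ : MvPolynomial (Fin n) A →ₐ[A] Sys.R k ⊗[A] X := MvPolynomial.aeval y
  have hφ : (Algebra.TensorProduct.map (Sys.ρ k) (AlgHom.id A X)).comp φ = f.comp π :=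
    MvPolynomial.algHom_ext fun i => by
      rw [AlgHom.comp_apply, MvPolynomial.aeval_X, ← rTensor_eq_map, hy]
      rfl
  obtain ⟨G, hG⟩ := hker
  obtain ⟨l, t, ht⟩ := Sys.exists_zero_finset k (G.image φ) (fun z hz => by
    obtain ⟨p, hp, rfl⟩ := Finset.mem_image.1 hz
    have hp0 : π p = 0 := RingHom.mem_ker.1 (hG ▸ Ideal.subset_span hp)
    rw [rTensor_eq_map]
    have := DFunLike.congr_fun hφ p
    simp only [AlgHom.comp_apply, hp0, map_zero] at this
    exact this)
  let φ' : MvPolynomial (Fin n) A →ₐ[A] Sys.R l ⊗[A] X :=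
    (Algebra.TensorProduct.map (Sys.τ t) (AlgHom.id A X)).comp φ
  have hle : RingHom.ker π.toRingHom ≤ RingHom.ker φ'.toRingHom := by
    rw [← hG, Ideal.span_le]
    intro p hp
    show φ' p = 0
    rw [AlgHom.comp_apply, ← rTensor_eq_map]
    exact ht _ (Finset.mem_image_of_mem _ hp)
  let g : B →ₐ[A] Sys.R l ⊗[A] X := (Ideal.Quotient.liftₐ _ φ' fun p hp => hle hp).comp
    (Ideal.quotientKerAlgEquivOfSurjective hπ).symm.toAlgHom
  refine ⟨(show {S : Subalgebra A R // S.FG} from l).1, (show {S : Subalgebra A R // S.FG} from l).2, g, fun b => ?_⟩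
  obtain ⟨p, rfl⟩ := hπ b
  have hg : g (π p) = φ' p := by
    show Ideal.Quotient.liftₐ (RingHom.ker π) φ' (fun p hp => hle hp) ((Ideal.quotientKerAlgEquivOfSurjective hπ).symm (π p)) = _
    rw [show (Ideal.quotientKerAlgEquivOfSurjective hπ).symm (π p) = Ideal.Quotient.mk _ p from
      (Ideal.quotientKerAlgEquivOfSurjective hπ).injective (by rw [AlgEquiv.apply_symm_apply]; rfl)]
    rfl
  rw [hg]
  show Algebra.TensorProduct.map (Sys.ρ l) (AlgHom.id A X) (Algebra.TensorProduct.map (Sys.τ t) (AlgHom.id A X) (φ p)) = _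
  rw [map_comp_left, Sys.comm]
  exact DFunLike.congr_fun hφ p

/-- Two homomorphisms which agree over the ring agree over a finitely generated subalgebra. -/
theorem exists_eq_stage [Algebra.FiniteType A B] (g g' : B →ₐ[A] X) (h : ∀ b, (1 : R) ⊗ₜ[A] g b = 1 ⊗ₜ g' b) :
    ∃ S₀ : Subalgebra A R, S₀.FG ∧ ∀ S : Subalgebra A R, S₀ ≤ S → ∀ b, (1 : S) ⊗ₜ[A] g b = 1 ⊗ₜ g' b := by
  classical
  obtain ⟨G, hG⟩ := (inferInstance : Algebra.FiniteType A B).out
  let Sys := fgSys A R
  let j₀ : Sys.J := (⟨⊥, Subalgebra.fg_bot⟩ : {S : Subalgebra A R // S.FG})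
  obtain ⟨k, t, ht⟩ := Sys.exists_zero_finset j₀ (G.image fun b => (1 : Sys.R j₀) ⊗ₜ[A] (g b - g' b))
    (fun z hz => by
      obtain ⟨b, -, rfl⟩ := Finset.mem_image.1 hz
      rw [LinearMap.rTensor_tmul, AlgHom.toLinearMap_apply, map_one, TensorProduct.tmul_sub, h, sub_self])
  refine ⟨(show {S : Subalgebra A R // S.FG} from k).1, (show {S : Subalgebra A R // S.FG} from k).2, fun S hS b => ?_⟩
  have e : (Algebra.TensorProduct.includeRight : X →ₐ[A] S ⊗[A] X).comp g = Algebra.TensorProduct.includeRight.comp g' := by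
    refine AlgHom.ext_of_adjoin_eq_top hG fun b hb => ?_
    have h1 := ht _ (Finset.mem_image_of_mem _ (Finset.mem_coe.1 hb))
    rw [LinearMap.rTensor_tmul, AlgHom.toLinearMap_apply, map_one] at h1
    have h2 := congrArg (Algebra.TensorProduct.map (Subalgebra.inclusion hS) (AlgHom.id A X)) h1
    rw [map_zero, Algebra.TensorProduct.map_tmul, map_one, AlgHom.id_apply, TensorProduct.tmul_sub, sub_eq_zero] at h2
    exact h2
  exact DFunLike.congr_fun e b

end Groth.Agent.MultFib
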