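import Groth.Agent.MultFib.Main
/-!
Fibrewise tori.
-/

set_option autoImplicit false
set_option linter.style.haveILetI false
set_option linter.unusedSectionVars false

universe u

open TensorProduct SGA3b
open scoped TensorProduct

namespace Groth.Agent.MultFib

variable {R : Type u} [CommRing R] {C : Type u} [CommRing C] [HopfAlgebra R C]

/-- A torus over a field splits over a field extension. -/
theorem exists_field_split {k : Type u} [Field k] {B : Type u} [CommRing B] [HopfAlgebra k B] (h : IsTorus k B) :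
    ∃ (K : Type u) (_ : Field K) (_ : Algebra k K) (n : ℕ),
      Nonempty (K ⊗[k] B ≃ₐc[K] MonoidAlgebra K (Multiplicative (Fin n → ℤ))) := by
  obtain ⟨s, hs, hc⟩ := h
  obtain ⟨f, hf, hfu⟩ : ∃ f ∈ s, f ≠ 0 := by
    by_contra! hn
    have : Ideal.span s ≤ ⊥ := Ideal.span_le.2 fun f hf => hn f hf
    rw [hs, top_le_iff] at this
    exact bot_ne_top this
  obtain ⟨R', _, _, hff, n, ⟨e⟩⟩ := hc f hf
  haveI : Nontrivial (Localization.Away f) :=
    (IsLocalization.atUnit k (Localization.Away f) f (isUnit_iff_ne_zero.2 hfu)).injective.nontrivial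
  haveI : Nontrivial R' := (FaithfulSMul.algebraMap_injective (Localization.Away f) R').nontrivial
  obtain ⟨W, hW⟩ := Ideal.exists_maximal R'
  letI : Field (R' ⧸ W) := Ideal.Quotient.field W
  letI : Algebra k R' := ((algebraMap (Localization.Away f) R').comp (algebraMap k (Localization.Away f))).toAlgebra
  haveI : IsScalarTower k (Localization.Away f) R' := IsScalarTower.of_algebraMap_eq' rfl
  exact ⟨R' ⧸ W, inferInstance, inferInstance, n, ⟨(MultType.cbc (R := k) (A := B) R' (R' ⧸ W)).symm.trans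
    (MultType.scalarEquiv (R' ⧸ W) ((MultType.cbc (R := k) (A := B) (Localization.Away f) R').symm.trans e))⟩⟩

/-- Tori over fields are connected. -/
theorem connectedSpace_of_isTorus {k : Type u} [Field k] {B : Type u} [CommRing B] [HopfAlgebra k B]
    (h : IsTorus k B) : ConnectedSpace (PrimeSpectrum B) := by
  obtain ⟨K, _, _, n, ⟨e⟩⟩ := exists_field_split h
  haveI : IsDomain (MonoidAlgebra K (Multiplicative (Fin n → ℤ))) := NoZeroDivisors.to_isDomain _
  haveI : IsDomain (K ⊗[k] B) :=
    (EquivLike.injective e).isDomain ((e : K ⊗[k] B ≃ₐ[K] MonoidAlgebra K (Multiplicative (Fin n → ℤ))).toAlgHom.toRingHom)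
  have hinj : Function.Injective (Algebra.TensorProduct.includeRight : B →ₐ[k] K ⊗[k] B) :=
    Module.FaithfullyFlat.tensorProduct_mk_injective (A := k) (B := K) B
  letI : Algebra B (K ⊗[k] B) := Algebra.TensorProduct.rightAlgebra
  haveI : IsDomain B := hinj.isDomain (Algebra.TensorProduct.includeRight : B →ₐ[k] K ⊗[k] B).toRingHom
  infer_instance

/-- Fibrewise tori are tori. -/
theorem isTorus_of_fibres [Algebra.FinitePresentation R C] [Module.Flat R C]
    (hfib : ∀ (p : Ideal R) [p.IsPrime], IsTorus p.ResidueField (p.ResidueField ⊗[R] C)) : IsTorus R C := by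
  classical
  have hM : IsMultType R C := by
    refine isMultType_of_connected_fibres fun p _ => ⟨?_, connectedSpace_of_isTorus (hfib p)⟩
    obtain ⟨s, hs, h⟩ := hfib p
    refine ⟨s, hs, fun f hf => ?_⟩
    obtain ⟨R', i1, i2, hff, n, ⟨e⟩⟩ := h f hf
    exact ⟨R', i1, i2, hff, _, inferInstance, ⟨e.trans (MonoidAlgebra.domCongrBialgEquiv R' R'
      (MulEquiv.ulift.{0, u} (α := Multiplicative (Fin n → ℤ))).symm)⟩⟩
  obtain ⟨s, hs, hc⟩ := MultType.exists_charts hM
  have key : ∀ p : PrimeSpectrum R, ∃ f : R, f ∉ p.asIdeal ∧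
      IsTorusConst (Localization.Away f) (Localization.Away f ⊗[R] C) := by
    intro p
    obtain ⟨f, hf, hfp⟩ : ∃ f ∈ s, f ∉ p.asIdeal := by
      by_contra! hn
      exact p.isPrime.ne_top (top_le_iff.1 (hs ▸ Ideal.span_le.2 hn))
    obtain ⟨c, rfl⟩ := hc f hf
    refine ⟨c.f, hfp, ?_⟩
    haveI : Nontrivial (Localization.Away c.f) := by
      refine (subsingleton_or_nontrivial _).resolve_left fun hsub => hfp ?_
      obtain ⟨⟨_, k, rfl⟩, hk⟩ := (IsLocalization.map_eq_zero_iff (Submonoid.powers c.f) (Localization.Away c.f) (1 : R)).1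
        (Subsingleton.elim _ _)
      exact p.isPrime.mem_of_pow_mem k (by
        rw [show c.f ^ k = 0 by simpa using hk]
        exact p.asIdeal.zero_mem)
    haveI : Nontrivial c.R' := (FaithfulSMul.algebraMap_injective (Localization.Away c.f) c.R').nontrivial
    obtain ⟨W, hW⟩ := Ideal.exists_maximal c.R'
    letI : Field (c.R' ⧸ W) := Ideal.Quotient.field W
    let L := c.R' ⧸ W
    let q : Ideal R := RingHom.ker (algebraMap R L)
    haveI : q.IsPrime := RingHom.ker_isPrime _
    let j : q.ResidueField →ₐ[R] L := Ideal.ResidueField.liftₐ q (Algebra.ofId R L) (fun r hr => hr)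
      (fun r hr => isUnit_iff_ne_zero.2 hr)
    obtain ⟨K, _, _, n, ⟨eK⟩⟩ := exists_field_split (hfib q)
    letI : Algebra q.ResidueField L := j.toRingHom.toAlgebra
    haveI : IsScalarTower R q.ResidueField L := IsScalarTower.of_algebraMap_eq fun r => (j.commutes r).symm
    haveI : Nontrivial (L ⊗[q.ResidueField] K) := inferInstance
    letI : Algebra R K := ((algebraMap q.ResidueField K).comp (algebraMap R q.ResidueField)).toAlgebra
    haveI : IsScalarTower R q.ResidueField K := IsScalarTower.of_algebraMap_eq' rfl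
    obtain ⟨Ω, _, f₁, f₂, hf⟩ : ∃ (Ω : Type u) (_ : Field Ω) (f₁ : c.R' →+* Ω) (f₂ : K →+* Ω),
        ∀ r, f₁ (algebraMap R c.R' r) = f₂ (algebraMap R K r) := by
      obtain ⟨V, hV⟩ := Ideal.exists_maximal (L ⊗[q.ResidueField] K)
      refine ⟨(L ⊗[q.ResidueField] K) ⧸ V, Ideal.Quotient.field V,
        ((Ideal.Quotient.mk V).comp (algebraMap L (L ⊗[q.ResidueField] K))).comp (Ideal.Quotient.mk W),
        (Ideal.Quotient.mk V).comp Algebra.TensorProduct.includeRight.toRingHom, fun r => ?_⟩
      show Ideal.Quotient.mk V ((algebraMap R L r) ⊗ₜ[q.ResidueField] (1 : K)) =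
        Ideal.Quotient.mk V ((1 : L) ⊗ₜ[q.ResidueField] algebraMap R K r)
      rw [IsScalarTower.algebraMap_apply R q.ResidueField L, IsScalarTower.algebraMap_apply R q.ResidueField K,
        Algebra.algebraMap_eq_smul_one (A := L), Algebra.algebraMap_eq_smul_one (A := K), TensorProduct.smul_tmul]
    letI : Algebra c.R' Ω := f₁.toAlgebra
    letI : Algebra K Ω := f₂.toAlgebra
    letI : Algebra R Ω := (f₁.comp (algebraMap R c.R')).toAlgebra
    haveI : IsScalarTower R c.R' Ω := IsScalarTower.of_algebraMap_eq' rfl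
    haveI : IsScalarTower R K Ω := IsScalarTower.of_algebraMap_eq hf
    obtain ⟨τ⟩ := MultType.nonempty_mulEquiv
      ((MultType.scalarEquiv Ω c.e).symm.trans ((MultType.cbc (R := R) (A := C) c.R' Ω).trans
        ((MultType.cbc (R := R) (A := C) K Ω).symm.trans
          (MultType.scalarEquiv Ω ((MultType.cbc (R := R) (A := C) q.ResidueField K).symm.trans eK)))))
    exact ⟨c.R', inferInstance, inferInstance, inferInstance, n, ⟨(MultType.cbc (R := R) (A := C) (Localization.Away c.f) c.R').trans
      (c.e.trans (MonoidAlgebra.domCongrBialgEquiv c.R' c.R' τ))⟩⟩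
  choose g hg hQ using key
  refine ⟨Set.range g, ?_, by rintro _ ⟨p, rfl⟩; exact hQ p⟩
  by_contra hne
  obtain ⟨m, hm, hle⟩ := Ideal.exists_le_maximal _ hne
  exact hg ⟨m, hm.isPrime⟩ (hle (Ideal.subset_span ⟨_, rfl⟩))

end Groth.Agent.MultFib
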